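import Mathlib

/-!
Characters of an abelian group acting on a vector space in coprime characteristic: existence of a
non-trivial character and counting bound.
-/

set_option autoImplicit false

open Module

namespace Cfsg.Agent.LinRep.CharOrbit

variable {L V : Type*} [Field L] [AddCommGroup V] [Module L V]

/-- A commuting family on a finite-dimensional space over an algebraically closed field has a common
eigenvector in every non-zero invariant subspace. -/
theorem common_eigenvector [IsAlgClosed L] [FiniteDimensional L V] {ι : Type*} (T : ι → End L V)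
    (hT : ∀ i j, Commute (T i) (T j)) (W₀ : Submodule L V) (hW₀ : W₀ ≠ ⊥)
    (hinv : ∀ i, ∀ x ∈ W₀, T i x ∈ W₀) :
    ∃ x ∈ W₀, x ≠ 0 ∧ ∀ i, ∃ c : L, T i x = c • x := by
  induction hd : finrank L W₀ using Nat.strong_induction_on generalizing W₀ with
  | _ d ih =>
    by_cases hall : ∀ i, ∃ c : L, ∀ x ∈ W₀, T i x = c • x
    · obtain ⟨x, hx, hx0⟩ := W₀.exists_mem_ne_zero_of_ne_bot hW₀
      exact ⟨x, hx, hx0, fun i => (hall i).imp fun c h => h x hx⟩
    · push Not at hall
      obtain ⟨i, hi⟩ := hall
      haveI : Nontrivial W₀ := (Submodule.nontrivial_iff_ne_bot).2 hW₀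
      obtain ⟨c, hc⟩ := Module.End.exists_eigenvalue ((T i).restrict (hinv i))
      obtain ⟨y, hy⟩ := hc.exists_hasEigenvector
      let W := W₀ ⊓ Module.End.eigenspace (T i) c
      have hyW : (y : V) ∈ W := ⟨y.2, Module.End.mem_eigenspace_iff.2 (congrArg Subtype.val hy.apply_eq_smul)⟩
      have hlt : W < W₀ := by
        refine lt_of_le_of_ne inf_le_left fun e => ?_
        obtain ⟨x, hx, hne⟩ := hi c
        rw [← e] at hx
        exact hne (Module.End.mem_eigenspace_iff.1 hx.2)
      have hWinv : ∀ j, ∀ x ∈ W, T j x ∈ W := by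
        intro j x hx
        refine ⟨hinv j x hx.1, Module.End.mem_eigenspace_iff.2 ?_⟩
        have := LinearMap.congr_fun (hT i j).eq x
        simp only [Module.End.mul_apply] at this
        rw [this, Module.End.mem_eigenspace_iff.1 hx.2, map_smul]
      obtain ⟨x, hx, r⟩ := ih _ (hd ▸ Submodule.finrank_lt_finrank_of_lt hlt) W
        (fun e => hy.2 (by rw [e, Submodule.mem_bot] at hyW; exact Subtype.ext hyW)) hWinv rfl
      exact ⟨x, hx.1, r⟩

variable {A : Type*} [AddCommGroup A]

/-- If `A` acts non-trivially with every element killed by `p`, `p` invertible in `L`, then some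
non-trivial character of `A` has an eigenvector. -/
theorem exists_nontrivial_char [IsAlgClosed L] [FiniteDimensional L V] (p : ℕ) (hp : (p : L) ≠ 0)
    (T : AddChar A (End L V)) (hA : ∀ a : A, p • a = 0) {a₀ : A} (ha₀ : T a₀ ≠ 1) :
    ∃ (χ : AddChar A L) (x : V), x ≠ 0 ∧ (∀ a, T a x = χ a • x) ∧ χ a₀ ≠ 1 := by
  have hcomm : ∀ a b, Commute (T a) (T b) := fun a b => by
    show T a * T b = T b * T a
    rw [← T.map_add_eq_mul, ← T.map_add_eq_mul, add_comm]
  set S : End L V := ∑ k ∈ Finset.range p, T a₀ ^ k
  let W₀ : Submodule L V := LinearMap.ker S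
  have hmul : S * (T a₀ - 1) = 0 := by
    rw [geom_sum_mul, ← T.map_nsmul_eq_pow, hA, T.map_zero_eq_one, sub_self]
  obtain ⟨z, hz⟩ : ∃ z, (T a₀ - 1) z ≠ 0 := by
    by_contra H
    push Not at H
    exact ha₀ (sub_eq_zero.1 (LinearMap.ext H))
  have hW₀ : W₀ ≠ ⊥ := by
    intro e
    apply hz
    rw [← Submodule.mem_bot L, ← e]
    exact LinearMap.congr_fun hmul z
  obtain ⟨x, hxW, hx0, hx⟩ := common_eigenvector (fun a => T a) hcomm W₀ hW₀ (fun a y hy => by
    have hc : Commute (T a) S := Commute.sum_right _ _ _ fun k _ => (hcomm a a₀).pow_right k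
    have := LinearMap.congr_fun hc.eq y
    simp only [Module.End.mul_apply] at this
    show S (T a y) = 0
    rw [← this, LinearMap.mem_ker.1 hy, map_zero])
  choose c hc using hx
  have hinj : ∀ {a b : L}, a • x = b • x → a = b := fun h => smul_left_injective L hx0 h
  let χ : AddChar A L :=
    { toFun := c
      map_zero_eq_one' := hinj (by rw [← hc, T.map_zero_eq_one, one_smul]; rfl)
      map_add_eq_mul' := fun a b => hinj (by
        rw [← hc, T.map_add_eq_mul, Module.End.mul_apply, hc, map_smul, hc, smul_smul, mul_comm]) }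
  refine ⟨χ, x, hx0, hc, fun h1 => ?_⟩
  have hk : ∀ k : ℕ, (T a₀ ^ k) x = x := by
    intro k
    induction k with
    | zero => rfl
    | succ k ih =>
      rw [pow_succ, Module.End.mul_apply, hc a₀, show c a₀ = 1 from h1, one_smul, ih]
  have : S x = (p : L) • x := by
    simp [S, LinearMap.sum_apply, hk, Nat.cast_smul_eq_nsmul]
  rw [LinearMap.mem_ker.1 hxW] at this
  exact (smul_ne_zero hp hx0) this.symm

/-- Eigenvectors for distinct characters bound the dimension from below. -/
theorem card_le_finrank [FiniteDimensional L V] (T : A → End L V) (s : Finset (AddChar A L))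
    (h : ∀ χ ∈ s, ∃ x : V, x ≠ 0 ∧ ∀ a, T a x = χ a • x) : s.card ≤ finrank L V := by
  classical
  choose x hx0 hx using h
  let v : s → V := fun χ => x χ.1 χ.2
  have hv : LinearIndependent L v := by
    rw [Fintype.linearIndependent_iff]
    intro g hg χ₀
    by_contra hne
    obtain ⟨φ, hφ⟩ : ∃ φ : V →ₗ[L] L, φ (v χ₀) ≠ 0 := by
      by_contra H
      push Not at H
      exact hx0 χ₀.1 χ₀.2 ((Module.forall_dual_apply_eq_zero_iff L _).1 H)
    have hind := (linearIndependent_monoidHom (Multiplicative A) L).comp
      (fun χ : s => (χ : AddChar A L).toMonoidHom) (fun a b e => Subtype.ext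
        (AddChar.toMonoidHomEquiv.injective e))
    have key : ∀ a : A, ∑ χ : s, (g χ * φ (v χ)) * (χ : AddChar A L) a = 0 := by
      intro a
      have := congrArg (fun w => φ (T a w)) hg
      simp only [map_sum, map_smul, map_zero, v, hx, smul_eq_mul] at this
      rw [← this]
      exact Finset.sum_congr rfl fun i _ => by ring
    have := Fintype.linearIndependent_iff.1 hind (fun χ => g χ * φ (v χ)) (by
      funext a
      simpa [Finset.sum_apply] using key (Multiplicative.toAdd a)) χ₀
    exact mul_ne_zero hne hφ this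
  have := hv.fintype_card_le_finrank
  rwa [Fintype.card_coe] at this

end Cfsg.Agent.LinRep.CharOrbit
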