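import Mathlib

/-!
# Jordan types of nilpotent maps through rank differences

For a submodule `D` invariant under `N`, `kerDim N D k = dim (ker N ⊓ N^k D)`; the number of Jordan blocks
of size `e` in `D` is `kerDim N D (e - 1) - kerDim N D e`.
-/

namespace Cfsg.Agent.LinRep.JordanType

variable {F V : Type*} [Field F] [AddCommGroup V] [Module F V] [FiniteDimensional F V]

theorem finrank_map_add {W : Type*} [AddCommGroup W] [Module F W] (f : V →ₗ[F] W) (S : Submodule F V) :
    Module.finrank F (S.map f) + Module.finrank F ↥(LinearMap.ker f ⊓ S) = Module.finrank F S := by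
  have h := LinearMap.finrank_range_add_finrank_ker (f.comp S.subtype)
  rw [LinearMap.range_comp, Submodule.range_subtype, LinearMap.ker_comp,
    LinearEquiv.finrank_eq (Submodule.equivMapOfInjective S.subtype S.injective_subtype
      (Submodule.comap S.subtype (LinearMap.ker f))),
    Submodule.map_comap_subtype, inf_comm] at h
  exact h

theorem finrank_finsetSup {ι : Type*} (s : Finset ι) {D : ι → Submodule F V} (hD : iSupIndep D) :
    Module.finrank F ↥(s.sup D) = ∑ i ∈ s, Module.finrank F (D i) := by
  classical
  induction s using Finset.induction with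
  | empty => simp
  | insert i s hi ih =>
    have hd : D i ⊓ s.sup D = ⊥ := by
      rw [← disjoint_iff]
      exact (hD i).mono le_rfl (Finset.sup_le fun j hj =>
        le_iSup₂_of_le j (fun h : j = i => hi (h ▸ hj)) le_rfl)
    have h := Submodule.finrank_sup_add_finrank_inf_eq (D i) (s.sup D)
    rw [hd, finrank_bot, add_zero, ih] at h
    rw [Finset.sup_insert, Finset.sum_insert hi, h]

theorem finrank_iSup_indep {ι : Type*} [Fintype ι] {D : ι → Submodule F V} (hD : iSupIndep D) :
    Module.finrank F ↥(⨆ i, D i) = ∑ i, Module.finrank F (D i) := by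
  rw [← Finset.sup_univ_eq_iSup]
  exact finrank_finsetSup _ hD

/-- `dim (ker N ⊓ N^k D)`. -/
noncomputable def kerDim (N : Module.End F V) (D : Submodule F V) (k : ℕ) : ℕ :=
  Module.finrank F ↥(LinearMap.ker N ⊓ D.map (N ^ k))

/-- `dim N^k D`. -/
noncomputable def rankDim (N : Module.End F V) (D : Submodule F V) (k : ℕ) : ℕ :=
  Module.finrank F ↥(D.map (N ^ k))

variable (N : Module.End F V) (D : Submodule F V)

theorem rankDim_succ (k : ℕ) : rankDim N D (k + 1) + kerDim N D k = rankDim N D k := by
  have h := finrank_map_add N (D.map (N ^ k))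
  rw [← Submodule.map_comp] at h
  rw [rankDim, rankDim, kerDim, pow_succ']
  exact h

variable {N D}

theorem map_pow_succ_le (hD : D.map N ≤ D) (k : ℕ) : D.map (N ^ (k + 1)) ≤ D.map (N ^ k) := by
  rw [pow_succ, Module.End.mul_eq_comp, Submodule.map_comp]
  exact Submodule.map_mono hD

theorem map_pow_le (hD : D.map N ≤ D) : ∀ k, D.map (N ^ k) ≤ D
  | 0 => by simp [Module.End.one_eq_id]
  | k + 1 => (map_pow_succ_le hD k).trans (map_pow_le hD k)

theorem kerDim_succ_le (hD : D.map N ≤ D) (k : ℕ) : kerDim N D (k + 1) ≤ kerDim N D k :=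
  Submodule.finrank_mono (inf_le_inf_left _ (map_pow_succ_le hD k))

theorem rankDim_sum {ι : Type*} [Fintype ι] {E : ι → Submodule F V} (hE : iSupIndep E)
    (htop : iSup E = ⊤) (hinv : ∀ i, (E i).map N ≤ E i) (k : ℕ) :
    rankDim N ⊤ k = ∑ i, rankDim N (E i) k := by
  rw [rankDim, ← htop, Submodule.map_iSup]
  exact finrank_iSup_indep (hE.mono fun i => map_pow_le (hinv i) k)

theorem kerDim_sum {ι : Type*} [Fintype ι] {E : ι → Submodule F V} (hE : iSupIndep E)
    (htop : iSup E = ⊤) (hinv : ∀ i, (E i).map N ≤ E i) (k : ℕ) :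
    kerDim N ⊤ k = ∑ i, kerDim N (E i) k := by
  have h0 := rankDim_succ N ⊤ k
  rw [rankDim_sum hE htop hinv, rankDim_sum hE htop hinv] at h0
  have hs : ∑ i, rankDim N (E i) (k + 1) + ∑ i, kerDim N (E i) k = ∑ i, rankDim N (E i) k := by
    rw [← Finset.sum_add_distrib]; exact Finset.sum_congr rfl fun i _ => rankDim_succ N (E i) k
  omega

variable (N D)

/-- The multiset of Jordan block sizes (at most `m`) of `N` on `D`. -/
noncomputable def jordanType (m : ℕ) : Multiset ℕ :=
  ∑ e ∈ Finset.range m, Multiset.replicate (kerDim N D e - kerDim N D (e + 1)) (e + 1)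

theorem count_jordanType (m e : ℕ) :
    (jordanType N D m).count (e + 1) = if e < m then kerDim N D e - kerDim N D (e + 1) else 0 := by
  classical
  rw [jordanType, Multiset.count_sum']
  simp [Multiset.count_replicate]

theorem count_jordanType_zero (m : ℕ) : (jordanType N D m).count 0 = 0 := by
  rw [jordanType, Multiset.count_sum']
  simp [Multiset.count_replicate]

variable {N D}

theorem sum_jordanType (hD : D.map N ≤ D) :
    ∀ m, (jordanType N D m).sum + m * kerDim N D m + rankDim N D m = Module.finrank F D
  | 0 => by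
    have h0 : D.map (N ^ 0) = D := by rw [pow_zero]; exact Submodule.map_id D
    simp only [jordanType, rankDim, h0, Finset.range_zero, Finset.sum_empty, Multiset.sum_zero, zero_mul, zero_add]
    exact congrArg (fun S : Submodule F V => Module.finrank F S) h0
  | m + 1 => by
    have ih := sum_jordanType hD m
    have h1 := rankDim_succ N D m
    rw [jordanType, Finset.sum_range_succ, ← jordanType, Multiset.sum_add, Multiset.sum_replicate,
      smul_eq_mul]
    obtain ⟨c, hc⟩ := Nat.le.dest (kerDim_succ_le hD m)
    rw [← hc, Nat.add_sub_cancel_left]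
    rw [← hc] at h1 ih
    linarith [h1, ih]

/-- If `D` is annihilated by `N ^ m`, its Jordan type is a partition of `dim D`. -/
theorem sum_jordanType_eq (hD : D.map N ≤ D) {m : ℕ} (hm : D.map (N ^ m) = ⊥) :
    (jordanType N D m).sum = Module.finrank F D := by
  have h := sum_jordanType hD m
  have h1 : rankDim N D m = 0 := by rw [rankDim, hm, finrank_bot]
  have h2 : kerDim N D m = 0 := by rw [kerDim, hm, inf_bot_eq, finrank_bot]
  rw [h1, h2] at h
  simpa using h

/-- The Jordan type of an invariant summand is a sub-multiset of the Jordan type of the whole. -/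
theorem count_summand_le {ι : Type*} [Fintype ι] {E : ι → Submodule F V} (hE : iSupIndep E)
    (htop : iSup E = ⊤) (hinv : ∀ i, (E i).map N ≤ E i) (i : ι) (m : ℕ) :
    jordanType N (E i) m ≤ jordanType N ⊤ m := by
  rw [Multiset.le_iff_count]
  rintro (_ | e)
  · rw [count_jordanType_zero]; exact Nat.zero_le _
  rw [count_jordanType, count_jordanType]
  split
  · rw [kerDim_sum hE htop hinv, kerDim_sum hE htop hinv,
      ← Finset.sum_tsub_distrib _ fun j _ => kerDim_succ_le (hinv j) e]
    exact Finset.single_le_sum (f := fun x => kerDim N (E x) e - kerDim N (E x) (e + 1))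
      (fun j _ => Nat.zero_le _) (Finset.mem_univ i)
  · exact le_rfl

/-- `N` has Jordan type `μ`: the ranks of its powers are those of the block diagonal model. -/
def HasType (N : Module.End F V) (μ : Multiset ℕ) : Prop :=
  ∀ k, rankDim N ⊤ k = (μ.map (· - k)).sum

theorem sum_map_sub_succ (μ : Multiset ℕ) (k : ℕ) :
    (μ.map (· - k)).sum = (μ.map (· - (k + 1))).sum + μ.countP (k < ·) := by
  induction μ using Multiset.induction with
  | empty => simp
  | cons e μ ih =>
    simp only [Multiset.map_cons, Multiset.sum_cons, Multiset.countP_cons, ih]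
    by_cases h : k < e <;> simp [h] <;> omega

theorem HasType.kerDim_eq {μ : Multiset ℕ} (h : HasType N μ) (k : ℕ) :
    kerDim N ⊤ k = μ.countP (k < ·) := by
  have h1 := rankDim_succ N ⊤ k
  rw [h k, h (k + 1), sum_map_sub_succ μ k] at h1
  omega

theorem countP_lt_split (μ : Multiset ℕ) (e : ℕ) :
    μ.countP (e < ·) = μ.countP (e + 1 < ·) + μ.count (e + 1) := by
  induction μ using Multiset.induction with
  | empty => simp
  | cons x μ ih =>
    simp only [Multiset.countP_cons, Multiset.count_cons, ih]
    split_ifs <;> omega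

theorem HasType.jordanType_le {μ : Multiset ℕ} (h : HasType N μ) (m : ℕ) :
    jordanType N ⊤ m ≤ μ := by
  rw [Multiset.le_iff_count]
  rintro (_ | e)
  · rw [count_jordanType_zero]; exact Nat.zero_le _
  rw [count_jordanType]
  split
  · rw [h.kerDim_eq, h.kerDim_eq]
    have := countP_lt_split μ e
    omega
  · exact Nat.zero_le _

section Model

variable {ι : Type*} [Fintype ι] [DecidableEq ι] (size : ι → ℕ)

/-- The shift matrix with blocks of the given sizes. -/
def shiftFun : ((Σ j, Fin (size j)) → F) →ₗ[F] ((Σ j, Fin (size j)) → F) where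
  toFun f p := if h : 0 < p.2.val then f ⟨p.1, ⟨p.2.val - 1, by omega⟩⟩ else 0
  map_add' f g := by ext p; dsimp only [Pi.add_apply]; split <;> simp
  map_smul' c f := by ext p; dsimp only [Pi.smul_apply, RingHom.id_apply]; split <;> simp

omit [Fintype ι] [DecidableEq ι] in
theorem shiftFun_pow_apply (k : ℕ) (f : (Σ j, Fin (size j)) → F) (p : Σ j, Fin (size j)) :
    ((shiftFun (F := F) size ^ k) f) p =
      if h : k ≤ p.2.val then f ⟨p.1, ⟨p.2.val - k, by omega⟩⟩ else 0 := by
  induction k generalizing p with
  | zero => simp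
  | succ k ih =>
    rw [pow_succ', Module.End.mul_apply]
    show (if h : 0 < p.2.val then ((shiftFun (F := F) size ^ k) f) ⟨p.1, ⟨p.2.val - 1, by omega⟩⟩ else 0) = _
    by_cases hp : 0 < p.2.val
    · rw [dif_pos hp, ih]
      by_cases hk : k + 1 ≤ p.2.val
      · rw [dif_pos hk, dif_pos (show k ≤ p.2.val - 1 by omega)]
        congr 2
        exact Fin.ext (by simp; omega)
      · rw [dif_neg hk, dif_neg (show ¬ k ≤ p.2.val - 1 by omega)]
    · rw [dif_neg hp, dif_neg (by omega)]

theorem shiftFun_hasType : HasType (shiftFun (F := F) size) (Finset.univ.val.map size) := by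
  intro k
  set N := shiftFun (F := F) size
  have hr : (⊤ : Submodule F ((Σ j, Fin (size j)) → F)).map (N ^ k) =
      LinearMap.ker (LinearMap.funLeft F F
        (fun p : {p : Σ j, Fin (size j) // p.2.val < k} => p.1)) := by
    ext g
    simp only [Submodule.mem_map, Submodule.mem_top, true_and, LinearMap.mem_ker]
    constructor
    · rintro ⟨f, rfl⟩
      funext p
      rw [LinearMap.funLeft_apply, shiftFun_pow_apply, dif_neg (by have := p.2; omega)]
      rfl
    · intro hg
      refine ⟨fun p => if h : p.2.val + k < size p.1 then g ⟨p.1, ⟨p.2.val + k, h⟩⟩ else 0, ?_⟩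
      funext p
      rw [shiftFun_pow_apply]
      by_cases hk : k ≤ p.2.val
      · have := p.2.isLt
        rw [dif_pos hk]
        dsimp only
        rw [dif_pos (by omega)]
        congr 1
        exact Sigma.ext rfl (heq_of_eq (Fin.ext (by simp; omega)))
      · rw [dif_neg hk]
        exact (congrFun hg ⟨p, by omega⟩).symm
  have h1 := LinearMap.finrank_range_add_finrank_ker (LinearMap.funLeft F F
    (fun p : {p : Σ j, Fin (size j) // p.2.val < k} => p.1))
  rw [LinearMap.range_eq_top.mpr (LinearMap.funLeft_surjective_of_injective F F _ Subtype.val_injective),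
    finrank_top, Module.finrank_fintype_fun_eq_card, Module.finrank_fintype_fun_eq_card] at h1
  rw [rankDim, hr]
  have hsig : Fintype.card {p : Σ j, Fin (size j) // p.2.val < k} = ∑ j, min (size j) k := by
    let e : {p : Σ j, Fin (size j) // p.2.val < k} ≃ Σ j, Fin (min (size j) k) :=
      { toFun := fun p => ⟨p.1.1, ⟨p.1.2.val, lt_min p.1.2.isLt p.2⟩⟩
        invFun := fun q => ⟨⟨q.1, ⟨q.2.val, lt_of_lt_of_le q.2.isLt (min_le_left _ _)⟩⟩,
          lt_of_lt_of_le q.2.isLt (min_le_right _ _)⟩
        left_inv := fun p => rfl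
        right_inv := fun q => rfl }
    rw [Fintype.card_congr e, Fintype.card_sigma]
    simp
  rw [Fintype.card_sigma] at h1
  simp only [Fintype.card_fin] at h1
  rw [Multiset.map_map]
  show _ = ∑ j, (size j - k)
  have hsum : ∑ j, (size j - k) + ∑ j, min (size j) k = ∑ j, size j := by
    rw [← Finset.sum_add_distrib]; exact Finset.sum_congr rfl fun j _ => by omega
  omega

end Model

end Cfsg.Agent.LinRep.JordanType
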