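import Mathlib

/-!
# Linear maps preserving a norm form

For `F = 𝔽_Q ⊆ D = 𝔽_{Q^l}` with `Q = q^c ≥ 3`, an additive map of `D` preserving the norm
`x ↦ x^(1+Q+⋯+Q^(l-1))` is `x ↦ a x^(Q^j)` (`eq_smul_frobenius_of_norm`), so a perfect group of
such maps is trivial (`eq_id_of_perfect_of_norm`).

Method: the norm is a product of `l` linear forms; two products of linear forms which agree on
`S^σ` have equal coefficients at all monomials with exponents `< |S|` (combinatorial
Nullstellensatz), and this survives linear substitutions when `|S|` is a power of the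
characteristic.
-/

set_option autoImplicit false

namespace Cfsg.Agent.LinRep.NormPreserver

open MvPolynomial
open scoped commutatorElement

variable {k : Type*} [Field k] {q : ℕ} [Fact q.Prime] [CharP k q] {σ τ : Type*}
  [Fintype σ] [Fintype τ]

/-- The linear form with coefficient vector `a`. -/
noncomputable def linForm (a : τ → k) : MvPolynomial τ k := ∑ j, C (a j) * X j

omit [Fact q.Prime] [CharP k q] in
theorem linForm_isHomogeneous (a : τ → k) : (linForm a).IsHomogeneous 1 :=
  IsHomogeneous.sum _ _ _ fun j _ => isHomogeneous_C_mul_X (a j) j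

omit [Fact q.Prime] [CharP k q] in
theorem eval_linForm (a t : τ → k) : eval t (linForm a) = ∑ j, a j * t j := by
  simp [linForm, map_sum]

omit [Fact q.Prime] [CharP k q] in
theorem linForm_single [DecidableEq τ] (a : τ) (c : k) :
    linForm (Pi.single a c) = C c * X a := by
  rw [linForm, Finset.sum_eq_single a]
  · rw [Pi.single_eq_same]
  · intro j _ hj
    rw [Pi.single_eq_of_ne hj, map_zero, zero_mul]
  · exact fun h => absurd (Finset.mem_univ a) h

omit [Fact q.Prime] [CharP k q] in
theorem linForm_add (a b : τ → k) : linForm (a + b) = linForm a + linForm b := by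
  simp [linForm, add_mul, Finset.sum_add_distrib]

omit [Fact q.Prime] [CharP k q] in
/-- A monomial in which the exponent of `a` exceeds the number of forms involving `a`. -/
theorem coeff_prod_linForm_eq_zero {ι : Type*} (s : Finset ι) (M : ι → τ → k) (a : τ)
    [DecidablePred fun i => M i a ≠ 0] {m : τ →₀ ℕ}
    (h : (s.filter fun i => M i a ≠ 0).card < m a) :
    coeff m (∏ i ∈ s, linForm (M i)) = 0 := by
  classical
  by_contra hne
  have h1 : m a ≤ degreeOf a (∏ i ∈ s, linForm (M i)) :=
    monomial_le_degreeOf a (mem_support_iff.2 hne)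
  have h2 : degreeOf a (∏ i ∈ s, linForm (M i)) ≤ ∑ i ∈ s, if M i a ≠ 0 then 1 else 0 := by
    refine (degreeOf_prod_le a s _).trans (Finset.sum_le_sum fun i _ => ?_)
    refine degreeOf_le_iff.2 fun d hd => ?_
    rw [mem_support_iff, linForm, coeff_sum] at hd
    obtain ⟨j, -, hj⟩ := Finset.exists_ne_zero_of_sum_ne_zero hd
    rw [C_mul_X_eq_monomial, coeff_monomial] at hj
    by_cases hd' : Finsupp.single j 1 = d
    · rw [if_pos hd'] at hj
      subst hd'
      by_cases hja : j = a
      · subst hja
        rw [if_pos hj, Finsupp.single_eq_same]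
      · simp [hja]
    · exact absurd (if_neg hd') hj
  rw [Finset.sum_boole] at h2
  simp only [Nat.cast_id] at h2
  omega

omit [Fact q.Prime] [CharP k q] [Fintype τ] in
/-- The coefficient of the square-free monomial on `s` in `∏_{i ∈ s} (X_i + c_i X_a)`. -/
theorem coeff_prod_X_add [DecidableEq τ] (a : τ) (c : τ → k) : ∀ s : Finset τ, a ∉ s →
    coeff (∑ i ∈ s, Finsupp.single i 1) (∏ i ∈ s, (X i + C (c i) * X a)) = 1 := by
  intro s
  induction s using Finset.induction_on with
  | empty => intro _; simp
  | insert i s hi ih =>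
    intro ha
    rw [Finset.mem_insert, not_or] at ha
    rw [Finset.sum_insert hi, Finset.prod_insert hi, add_mul, coeff_add]
    have h1 : coeff (Finsupp.single i 1 + ∑ j ∈ s, Finsupp.single j 1)
        (X i * ∏ j ∈ s, (X j + C (c j) * X a)) = 1 := by
      rw [show (X i : MvPolynomial τ k) = monomial (Finsupp.single i 1) 1 from rfl,
        coeff_monomial_mul, one_mul, ih ha.2]
    have h2 : coeff (Finsupp.single i 1 + ∑ j ∈ s, Finsupp.single j 1)
        (C (c i) * X a * ∏ j ∈ s, (X j + C (c j) * X a)) = 0 := by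
      rw [C_mul_X_eq_monomial, coeff_monomial_mul', if_neg]
      intro hle
      have := hle a
      rw [Finsupp.single_eq_same, Finsupp.add_apply, Finsupp.finsetSum_apply,
        Finset.sum_eq_zero (fun j hj => Finsupp.single_eq_of_ne (fun (h : a = j) => ha.2 (h.symm ▸ hj))),
        Finsupp.single_eq_of_ne ha.1] at this
      omega
    rw [h1, h2, add_zero]

/-- Substituting linear forms preserves the vanishing of all monomials with small exponents. -/
theorem coeff_aeval_eq_zero {c : ℕ} (M : σ → τ → k) {P : MvPolynomial σ k}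
    (hP : ∀ m : σ →₀ ℕ, (∀ j, m j < q ^ c) → coeff m P = 0) {m : τ →₀ ℕ}
    (hm : ∀ j, m j < q ^ c) : coeff m (aeval (fun j => linForm (M j)) P) = 0 := by
  classical
  have : ExpChar k q := ExpChar.prime Fact.out
  have : ExpChar (MvPolynomial τ k) q := ExpChar.prime Fact.out
  rw [P.as_sum, map_sum, coeff_sum]
  refine Finset.sum_eq_zero fun d hd => ?_
  obtain ⟨j, hj⟩ : ∃ j, q ^ c ≤ d j := by
    by_contra! hall
    exact (mem_support_iff.1 hd) (hP d hall)
  rw [aeval_monomial, Finsupp.prod_fintype _ _ (fun i => pow_zero _),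
    ← Finset.mul_prod_erase _ _ (Finset.mem_univ j),
    show linForm (M j) ^ d j = linForm (M j) ^ q ^ c * linForm (M j) ^ (d j - q ^ c) by
      rw [← pow_add, Nat.add_sub_cancel' hj],
    linForm, sum_pow_char_pow, algebraMap_eq]
  simp only [mul_pow, Finset.sum_mul, Finset.mul_sum]
  rw [coeff_sum]
  refine Finset.sum_eq_zero fun i _ => ?_
  rw [coeff_C_mul, mul_assoc (C (M j i) ^ q ^ c * X i ^ q ^ c), mul_assoc (C (M j i) ^ q ^ c),
    ← map_pow, coeff_C_mul, X_pow_eq_monomial, coeff_monomial_mul', if_neg, mul_zero, mul_zero]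
  intro hle
  have := hle i
  rw [Finsupp.single_eq_same] at this
  have := hm i
  omega

omit [Fact q.Prime] [CharP k q] in
theorem aeval_linForm (M : σ → τ → k) (a : σ → k) :
    aeval (fun j => linForm (M j)) (linForm a) = linForm fun b => ∑ j, a j * M j b := by
  simp only [linForm, map_sum, map_mul, aeval_C, aeval_X, algebraMap_eq, Finset.mul_sum,
    Finset.sum_mul, ← mul_assoc]
  rw [Finset.sum_comm]

/-- Products of linear forms agreeing on `S^σ` agree at small monomials after substitution. -/
theorem coeff_prod_linForm_congr {c l : ℕ} (S : Finset k) (hS : S.card = q ^ c)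
    (A B : Fin l → σ → k)
    (h : ∀ t : σ → k, (∀ j, t j ∈ S) → ∏ i, ∑ j, A i j * t j = ∏ i, ∑ j, B i j * t j)
    (M : σ → τ → k) {m : τ →₀ ℕ} (hm : ∀ j, m j < q ^ c) :
    coeff m (∏ i, linForm fun b => ∑ j, A i j * M j b) =
      coeff m (∏ i, linForm fun b => ∑ j, B i j * M j b) := by
  classical
  have hh : ∀ E : Fin l → σ → k, (∏ i, linForm (E i)).IsHomogeneous l := fun E => by
    have := IsHomogeneous.prod Finset.univ (fun i => linForm (E i)) (fun _ => 1)
      (fun i _ => linForm_isHomogeneous (E i))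
    simpa using this
  have hP : ∀ d : σ →₀ ℕ, (∀ j, d j < q ^ c) →
      coeff d (∏ i, linForm (A i) - ∏ i, linForm (B i)) = 0 := by
    intro d hd
    by_contra hne
    have hhom := (hh A).sub (hh B)
    have hdeg : d.degree = l := by
      have h1 := hhom hne
      rw [Finsupp.degree_eq_weight_one]
      exact h1
    obtain ⟨x, hx, hx0⟩ := combinatorial_nullstellensatz_exists_eval_nonzero _ d hne
      (by rw [hhom.totalDegree (fun h0 => hne (by rw [h0, coeff_zero])), hdeg])
      (fun _ => S) (fun j => hS ▸ hd j)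
    refine hx0 ?_
    rw [map_sub, map_prod, map_prod]
    simp only [eval_linForm]
    rw [h x hx, sub_self]
  have h0 := coeff_aeval_eq_zero M hP hm
  rw [map_sub, map_prod, map_prod, coeff_sub, sub_eq_zero] at h0
  simp only [aeval_linForm] at h0
  exact h0

/-- A linear map preserving a product of coordinates on an `S`-rational spanning set
preserves their common zero set, and, if `|S| ≥ 3`, the set of vectors with at most one of them
nonzero. -/
theorem linear_preserver {c n l : ℕ} (S : Finset k) (hS : S.card = q ^ c) (hQ : 2 ≤ q ^ c)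
    (A : (σ → k) →ₗ[k] (Fin n → k)) (hA : Function.Surjective A)
    (L : (Fin n → k) ≃ₗ[k] (Fin n → k)) (f : Fin l → Fin n) (hf : Function.Injective f)
    (h : ∀ t : σ → k, (∀ j, t j ∈ S) → ∏ i, A t (f i) = ∏ i, L (A t) (f i)) :
    (∀ v : Fin n → k, (∀ i, v (f i) = 0) → ∀ i, L v (f i) = 0) ∧
      (3 ≤ q ^ c → ∀ v : Fin n → k, (∀ i j, i ≠ j → v (f i) * v (f j) = 0) →
        ∀ i j, i ≠ j → L v (f i) * L v (f j) = 0) := by
  classical
  have expand : ∀ (Φ : (σ → k) →ₗ[k] (Fin n → k)) (t : σ → k) (i : Fin l),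
      Φ t (f i) = ∑ j, Φ (Pi.single j 1) (f i) * t j := by
    intro Φ t i
    rw [LinearMap.pi_apply_eq_sum_univ Φ t, Finset.sum_apply]
    refine Finset.sum_congr rfl fun j _ => ?_
    rw [Pi.smul_apply, smul_eq_mul, mul_comm]
    congr 1
    refine congrFun (congrArg Φ ?_) _
    funext x
    simp [Pi.single_apply, eq_comm]
  -- equality of coefficients for arbitrary vectors
  have key : ∀ (u : Fin l → Fin n → k) (m : Fin l →₀ ℕ), (∀ j, m j < q ^ c) →
      coeff m (∏ i, linForm fun b => u b (f i)) =
        coeff m (∏ i, linForm fun b => L (u b) (f i)) := by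
    intro u m hm
    choose w hw using fun b => hA (u b)
    have h0 := coeff_prod_linForm_congr S hS (fun i j => A (Pi.single j 1) (f i))
      (fun i j => (L.toLinearMap.comp A) (Pi.single j 1) (f i))
      (fun t ht => by
        rw [← Finset.prod_congr rfl fun i _ => expand A t i,
          ← Finset.prod_congr rfl fun i _ => expand (L.toLinearMap.comp A) t i]
        exact h t ht)
      (fun j b => w b j) hm
    rw [Finset.prod_congr rfl fun i _ => congrArg linForm (funext fun b =>
        (expand A (fun j => w b j) i).symm),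
      Finset.prod_congr rfl fun i _ => congrArg linForm (funext fun b =>
        (expand (L.toLinearMap.comp A) (fun j => w b j) i).symm)] at h0
    simpa only [hw, LinearMap.comp_apply, LinearEquiv.coe_coe] using h0
  have count : ∀ (v : Fin n → k) (u : Fin l → Fin n → k) (a : Fin l) (m : Fin l →₀ ℕ),
      u a = v → (Finset.univ.filter fun i => v (f i) ≠ 0).card < m a →
      coeff m (∏ i, linForm fun b => u b (f i)) = 0 := by
    intro v u a m hua hlt
    refine coeff_prod_linForm_eq_zero Finset.univ (fun i b => u b (f i)) a ?_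
    simpa only [hua] using hlt
  constructor
  · intro v hv a
    let u : Fin l → Fin n → k := fun b => if b = a then v else L.symm (Pi.single (f b) 1)
    let m : Fin l →₀ ℕ := Finsupp.single a 1 + ∑ i ∈ Finset.univ.erase a, Finsupp.single i 1
    have hma : ∀ j, m j = 1 := by
      intro j
      simp only [m, Finsupp.add_apply, Finsupp.finsetSum_apply]
      by_cases hj : j = a
      · subst hj
        rw [Finsupp.single_eq_same, Finset.sum_eq_zero fun i hi =>
          Finsupp.single_eq_of_ne (Ne.symm (Finset.ne_of_mem_erase hi)), add_zero]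
      · rw [Finsupp.single_eq_of_ne hj, Finset.sum_eq_single j]
        · simp
        · intro i _ hij
          exact Finsupp.single_eq_of_ne (Ne.symm hij)
        · intro h'
          exact absurd (Finset.mem_erase.2 ⟨hj, Finset.mem_univ j⟩) h'
    have hm : ∀ j, m j < q ^ c := fun j => by rw [hma]; omega
    have hlhs : coeff m (∏ i, linForm fun b => u b (f i)) = 0 := by
      refine count v u a m (by simp [u]) ?_
      simp [hv, hma]
    have hform : ∀ i, (linForm fun b => L (u b) (f i)) =
        if i = a then C (L v (f a)) * X a else X i + C (L v (f i)) * X a := by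
      intro i
      split_ifs with hi
      · subst hi
        rw [← linForm_single]
        congr 1
        funext b
        by_cases hb : b = i
        · subst hb; simp [u]
        · simp [u, hb, Ne.symm (hf.ne hb)]
      · rw [← linForm_single (τ := Fin l) a (L v (f i)),
          show (X i : MvPolynomial (Fin l) k) = linForm (Pi.single i 1) by
            rw [linForm_single, map_one, one_mul],
          ← linForm_add]
        congr 1
        funext b
        by_cases hb : b = a
        · subst hb; simp [u, Ne.symm hi]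
        · by_cases hbi : b = i
          · subst hbi; simp [u, hb]
          · simp [u, hb, hbi, Ne.symm (hf.ne hbi)]
    have h0 := key u m hm
    rw [hlhs] at h0
    simp only [hform] at h0
    rw [← Finset.mul_prod_erase _ _ (Finset.mem_univ a), if_pos rfl, C_mul_X_eq_monomial,
      coeff_monomial_mul, Finset.prod_congr rfl (fun i hi => if_neg (Finset.ne_of_mem_erase hi)),
      coeff_prod_X_add a (fun i => L v (f i)) _ (Finset.notMem_erase a _), mul_one] at h0
    exact h0.symm
  · intro hQ3 v hv a b hab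
    let u : Fin l → Fin n → k := fun j =>
      if j = a then v else if j = b then 0 else L.symm (Pi.single (f j) 1)
    set s : Finset (Fin l) := (Finset.univ.erase a).erase b with hs
    let m : Fin l →₀ ℕ := Finsupp.single a 2 + ∑ i ∈ s, Finsupp.single i 1
    have hm : ∀ j, m j < q ^ c := by
      intro j
      simp only [m, Finsupp.add_apply, Finsupp.finsetSum_apply]
      by_cases hj : j = a
      · subst hj
        rw [Finsupp.single_eq_same, Finset.sum_eq_zero fun i hi => Finsupp.single_eq_of_ne
          (Ne.symm (Finset.ne_of_mem_erase (Finset.mem_of_mem_erase hi))), add_zero]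
        omega
      · rw [Finsupp.single_eq_of_ne hj, zero_add]
        by_cases hjs : j ∈ s
        · rw [Finset.sum_eq_single j (fun i _ hij => Finsupp.single_eq_of_ne (Ne.symm hij))
            (fun h' => absurd hjs h'), Finsupp.single_eq_same]
          omega
        · rw [Finset.sum_eq_zero fun i hi => Finsupp.single_eq_of_ne fun (h' : j = i) => hjs (h'.symm ▸ hi)]
          omega
    have hma : m a = 2 := by
      simp only [m, Finsupp.add_apply, Finsupp.finsetSum_apply]
      rw [Finsupp.single_eq_same, Finset.sum_eq_zero fun i hi => Finsupp.single_eq_of_ne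
        (Ne.symm (Finset.ne_of_mem_erase (Finset.mem_of_mem_erase hi))), add_zero]
    have hlhs : coeff m (∏ i, linForm fun j => u j (f i)) = 0 := by
      refine count v u a m (by simp [u]) ?_
      rw [hma, Nat.lt_succ_iff, Finset.card_le_one]
      intro i hi j hj
      by_contra hij
      exact mul_ne_zero (Finset.mem_filter.1 hi).2 (Finset.mem_filter.1 hj).2 (hv i j hij)
    have hformab : ∀ i, i = a ∨ i = b →
        (linForm fun j => L (u j) (f i)) = C (L v (f i)) * X a := by
      intro i hi
      rw [← linForm_single]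
      congr 1
      funext j
      by_cases hja : j = a
      · subst hja; simp [u]
      · by_cases hjb : j = b
        · subst hjb; simp [u, hja]
        · have hji : j ≠ i := by rcases hi with rfl | rfl <;> assumption
          simp [u, hja, hjb, Ne.symm (hf.ne hji)]
    have hformi : ∀ i ∈ s, (linForm fun j => L (u j) (f i)) = X i + C (L v (f i)) * X a := by
      intro i hi
      have hib : i ≠ b := Finset.ne_of_mem_erase hi
      have hia : i ≠ a := Finset.ne_of_mem_erase (Finset.mem_of_mem_erase hi)
      rw [← linForm_single (τ := Fin l) a (L v (f i)),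
        show (X i : MvPolynomial (Fin l) k) = linForm (Pi.single i 1) by
          rw [linForm_single, map_one, one_mul],
        ← linForm_add]
      congr 1
      funext j
      by_cases hja : j = a
      · subst hja; simp [u, Ne.symm hia]
      · by_cases hjb : j = b
        · subst hjb; simp [u, hja, Ne.symm hib]
        · by_cases hji : j = i
          · subst hji; simp [u, hja, hjb]
          · simp [u, hja, hjb, hji, Ne.symm (hf.ne hji)]
    have h0 := key u m hm
    rw [hlhs, ← Finset.mul_prod_erase _ _ (Finset.mem_univ a),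
      ← Finset.mul_prod_erase _ _ (Finset.mem_erase.2 ⟨Ne.symm hab, Finset.mem_univ b⟩),
      hformab a (Or.inl rfl), hformab b (Or.inr rfl), Finset.prod_congr rfl hformi, ← mul_assoc,
      C_mul_X_eq_monomial, C_mul_X_eq_monomial, monomial_mul, ← Finsupp.single_add,
      coeff_monomial_mul,
      coeff_prod_X_add a (fun i => L v (f i)) _
        (fun h' => Finset.notMem_erase a _ (Finset.mem_of_mem_erase h')), mul_one] at h0
    exact h0.symm

section Field

variable {D : Type*} [Field D] [Fintype D] {r : ℕ} [Fact r.Prime] [Algebra (ZMod r) D]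

omit [Fintype D] in
theorem charP_of_algebra : CharP D r :=
  charP_of_injective_algebraMap (algebraMap (ZMod r) D).injective r

/-- The Frobenius power `x ↦ x ^ (r ^ i)`. -/
def frobLin (i : ℕ) : D →ₗ[ZMod r] D where
  toFun x := x ^ r ^ i
  map_add' x y := by
    have := charP_of_algebra (D := D) (r := r)
    exact add_pow_char_pow x y r i
  map_smul' s x := by
    rw [Algebra.smul_def, mul_pow, ← map_pow, ZMod.pow_card_pow, RingHom.id_apply, Algebra.smul_def]

omit [Fintype D] in
theorem frobLin_apply (i : ℕ) (x : D) : frobLin (r := r) i x = x ^ r ^ i := rfl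

/-- Moore's matrix `(x_j ^ (r ^ i))` of a basis `x` is invertible. -/
theorem isUnit_moore {n : ℕ} (bs : Module.Basis (Fin n) (ZMod r) D) :
    IsUnit (Matrix.of fun (j i : Fin n) => bs j ^ r ^ (i : ℕ)) := by
  classical
  have hr := Fact.out (p := r.Prime)
  rw [← Matrix.mulVec_injective_iff_isUnit]
  intro w w' hw
  rw [← sub_eq_zero]
  set z := w - w' with hz
  have hzero : ∀ j, ∑ i : Fin n, bs j ^ r ^ (i : ℕ) * z i = 0 := fun j => by
    have := congrFun hw j
    simp only [Matrix.mulVec, dotProduct, Matrix.of_apply] at this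
    simp only [hz, Pi.sub_apply, mul_sub, Finset.sum_sub_distrib, this, sub_self]
  let T : D →ₗ[ZMod r] D :=
    ∑ i : Fin n, (LinearMap.mulRight (ZMod r) (z i)).comp (frobLin (i : ℕ))
  have hT : T = 0 := bs.ext fun j => by
    simpa [T, frobLin_apply] using hzero j
  rcases Nat.eq_zero_or_pos n with rfl | hn
  · exact Subsingleton.elim _ _
  let P : Polynomial D := ∑ i : Fin n, Polynomial.monomial (r ^ (i : ℕ)) (z i)
  have hcard : Fintype.card D = r ^ n := by
    rw [Module.card_fintype bs, ZMod.card, Fintype.card_fin]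
  have hdeg : P.natDegree < Fintype.card D := by
    refine lt_of_le_of_lt (Polynomial.natDegree_sum_le_of_forall_le _ _ fun i _ =>
      (Polynomial.natDegree_monomial_le _).trans
        (Nat.pow_le_pow_right hr.pos (show (i : ℕ) ≤ n - 1 by omega))) ?_
    rw [hcard]
    exact Nat.pow_lt_pow_right hr.one_lt (by omega)
  have hP : P = 0 := Polynomial.eq_zero_of_natDegree_lt_card_of_eval_eq_zero P
    (f := fun x : D => x) (fun _ _ h => h) (fun x => by
      have := LinearMap.congr_fun hT x
      simpa [P, T, frobLin_apply, Polynomial.eval_finsetSum, mul_comm] using this) hdeg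
  funext i
  have := congrArg (fun Q : Polynomial D => Q.coeff (r ^ (i : ℕ))) hP
  simp only [P, Polynomial.finsetSum_coeff, Polynomial.coeff_monomial, Polynomial.coeff_zero] at this
  rw [Finset.sum_eq_single i] at this
  · simpa using this
  · intro j _ hji
    rw [if_neg]
    exact fun h => hji (Fin.ext (Nat.pow_right_injective hr.two_le h))
  · exact fun h => absurd (Finset.mem_univ i) h

theorem card_fixed_frobenius {Q l : ℕ} (hQ : 2 ≤ Q) (hD : Fintype.card D = Q ^ l) :
    ∃ S : Finset D, S.card = Q ∧ ∀ t ∈ S, t ^ Q = t := by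
  classical
  have hdvd : Q - 1 ∣ Nat.card Dˣ := by
    rw [Nat.card_units, Nat.card_eq_fintype_card, hD]
    simpa using Nat.sub_dvd_pow_sub_pow Q 1 l
  let H : Subgroup Dˣ := (powMonoidHom (Q - 1) : Dˣ →* Dˣ).ker
  have hH : Nat.card H = Q - 1 := by
    rw [IsCyclic.card_powMonoidHom_ker]
    exact Nat.gcd_eq_right hdvd
  let S : Finset D := insert 0 ((Finset.univ.filter fun x : Dˣ => x ∈ H).image (fun x : Dˣ => (x : D)))
  refine ⟨S, ?_, ?_⟩
  · rw [Finset.card_insert_of_notMem, Finset.card_image_of_injective _ fun _ _ h => Units.ext h,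
      ← Fintype.card_subtype, ← Nat.card_eq_fintype_card]
    · show Nat.card H + 1 = Q
      omega
    · simp
  · intro t ht
    rcases Finset.mem_insert.1 ht with rfl | ht
    · exact zero_pow (by omega)
    obtain ⟨x, hx, rfl⟩ := Finset.mem_image.1 ht
    have h1 : (x : D) ^ (Q - 1) = 1 := by
      have h0 := (Finset.mem_filter.1 hx).2
      rw [MonoidHom.mem_ker, powMonoidHom_apply] at h0
      rw [← Units.val_pow_eq_pow_val, h0, Units.val_one]
    calc (x : D) ^ Q = (x : D) ^ (Q - 1) * x := by rw [← pow_succ]; congr 1; omega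
      _ = x := by rw [h1, one_mul]

/-- An additive bijection of `𝔽_{Q^l}` preserving the norm to `𝔽_Q` (`Q ≥ 3`) is semilinear. -/
theorem eq_smul_frobenius_of_norm {c l : ℕ} (hl : 0 < l)
    (hD : Fintype.card D = (r ^ c) ^ l) (hQ : 3 ≤ r ^ c) (g : D ≃ₗ[ZMod r] D)
    (hN : ∀ x, (g x) ^ (∑ i ∈ Finset.range l, (r ^ c) ^ i) =
      x ^ (∑ i ∈ Finset.range l, (r ^ c) ^ i)) :
    ∃ (a : D) (j : ℕ), ∀ x, g x = a * x ^ (r ^ c) ^ j := by
  classical
  have hr := Fact.out (p := r.Prime)
  have hcp := charP_of_algebra (D := D) (r := r)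
  have hc : 0 < c := Nat.pos_of_ne_zero fun h => by rw [h, pow_zero] at hQ; omega
  have hfin : Module.finrank (ZMod r) D = c * l := by
    have h := Module.card_eq_pow_finrank (K := ZMod r) (V := D)
    rw [hD, ZMod.card, ← pow_mul] at h
    exact Nat.pow_right_injective hr.two_le h.symm
  set n := c * l with hn
  let bs := Module.finBasisOfFinrankEq (ZMod r) D hfin
  let M : Module.Basis (Fin n) (ZMod r) D → Matrix (Fin n) (Fin n) D :=
    fun e => Matrix.of fun (j i : Fin n) => e j ^ r ^ (i : ℕ)
  let A : Module.Basis (Fin n) (ZMod r) D → (Fin n → D) ≃ₗ[D] (Fin n → D) := fun e =>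
    LinearEquiv.ofBijective (Matrix.vecMulLinear (M e))
      ⟨Matrix.vecMul_injective_iff_isUnit.2 (isUnit_moore e),
        Matrix.vecMul_surjective_iff_isUnit.2 (isUnit_moore e)⟩
  have hA : ∀ e t i, A e t i = ∑ j, t j * e j ^ r ^ (i : ℕ) := fun e t i => rfl
  let L : (Fin n → D) ≃ₗ[D] (Fin n → D) := (A bs).symm.trans (A (bs.map g))
  have hL : ∀ t, L (A bs t) = A (bs.map g) t := fun t => by simp [L]
  have hAS : ∀ (e : Module.Basis (Fin n) (ZMod r) D) (s : Fin n → ZMod r) (i : Fin n),
      A e (fun j => algebraMap (ZMod r) D (s j)) i = (∑ j, s j • e j) ^ r ^ (i : ℕ) := by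
    intro e s i
    rw [hA, ← frobLin_apply (r := r), map_sum]
    refine Finset.sum_congr rfl fun j _ => ?_
    rw [map_smul, frobLin_apply, Algebra.smul_def]
  have hsum : ∀ s : Fin n → ZMod r, ∑ j, s j • (bs.map g) j = g (∑ j, s j • bs j) := fun s => by
    simp [map_sum]
  have hΨ : ∀ (x : D) (i : Fin n),
      L (fun i => x ^ r ^ (i : ℕ)) i = g x ^ r ^ (i : ℕ) := by
    intro x i
    have h1 : (fun i : Fin n => x ^ r ^ (i : ℕ)) =
        A bs (fun j => algebraMap (ZMod r) D (bs.repr x j)) := by
      funext i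
      rw [hAS, bs.sum_repr]
    rw [h1, hL, hAS, hsum, bs.sum_repr]
  let f : Fin l → Fin n := fun i => ⟨c * i, by rw [hn]; exact Nat.mul_lt_mul_of_pos_left i.2 hc⟩
  have hf : Function.Injective f := fun a b h =>
    Fin.ext (Nat.eq_of_mul_eq_mul_left hc (congrArg Fin.val h))
  have hfQ : ∀ i : Fin l, r ^ ((f i : Fin n) : ℕ) = (r ^ c) ^ (i : ℕ) := fun i => by
    rw [← pow_mul]
  have hN' : ∀ x, ∏ i : Fin l, x ^ r ^ ((f i : Fin n) : ℕ) =
      ∏ i : Fin l, g x ^ r ^ ((f i : Fin n) : ℕ) := by
    intro x
    simp only [hfQ, Finset.prod_pow_eq_pow_sum, Fin.sum_univ_eq_sum_range fun i => (r ^ c) ^ i, hN]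
  -- first over the prime field
  let S₀ : Finset D := Finset.univ.image (algebraMap (ZMod r) D)
  have hS₀ : S₀.card = r ^ 1 := by
    rw [Finset.card_image_of_injective _ (algebraMap (ZMod r) D).injective, Finset.card_univ,
      ZMod.card, pow_one]
  have h₀ : ∀ t : Fin n → D, (∀ j, t j ∈ S₀) →
      ∏ i, A bs t (f i) = ∏ i, A (bs.map g) t (f i) := by
    intro t ht
    choose s _ hs using fun j => Finset.mem_image.1 (ht j)
    obtain rfl : (fun j => algebraMap (ZMod r) D (s j)) = t := funext hs
    simp only [hAS, hsum]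
    exact hN' _
  have hfw := linear_preserver (σ := Fin n) S₀ hS₀ (by rw [pow_one]; exact hr.two_le)
    (A bs).toLinearMap (A bs).surjective L f hf
    (fun t ht => by simpa [hL] using h₀ t ht)
  have hbw := linear_preserver (σ := Fin n) S₀ hS₀ (by rw [pow_one]; exact hr.two_le)
    (A (bs.map g)).toLinearMap (A (bs.map g)).surjective L.symm f hf
    (fun t ht => by
      have h1 : L.symm (A (bs.map g) t) = A bs t := by rw [← hL, LinearEquiv.symm_apply_apply]
      simpa [h1] using (h₀ t ht).symm)
  set i0 : Fin l := ⟨0, hl⟩ with hi0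
  let a : Fin l → D := fun j => L (Pi.single (f j) 1) (f i0)
  have hg : ∀ x, g x = ∑ j : Fin l, x ^ (r ^ c) ^ (j : ℕ) * a j := by
    intro x
    have h1 := hΨ x (f i0)
    rw [show ((f i0 : Fin n) : ℕ) = 0 from Nat.mul_zero c, pow_zero, pow_one] at h1
    rw [← h1, show L (fun i => x ^ r ^ (i : ℕ)) =
      L.toLinearMap (fun i => x ^ r ^ (i : ℕ)) from rfl, LinearMap.pi_apply_eq_sum_univ,
      Finset.sum_apply]
    symm
    refine Fintype.sum_of_injective f hf _ _ (fun i hi => ?_) (fun j => ?_)
    · rw [Pi.smul_apply, smul_eq_mul, LinearEquiv.coe_coe, hfw.1 _ (fun m => ?_) i0, mul_zero]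
      simp only [ite_eq_right_iff]
      intro h
      exact absurd ⟨m, h.symm⟩ hi
    · rw [Pi.smul_apply, smul_eq_mul, hfQ]
      congr 1
      refine congrFun (congrArg L ?_) _
      funext m
      simp [Pi.single_apply, eq_comm]
  -- now over `𝔽_Q`
  obtain ⟨S, hS, hSQ⟩ := card_fixed_frobenius (D := D) (Q := r ^ c) (by omega) hD
  have hfix : ∀ t ∈ S, ∀ i : ℕ, t ^ (r ^ c) ^ i = t := by
    intro t ht i
    induction i with
    | zero => rw [pow_zero, pow_one]
    | succ i ih => rw [pow_succ, pow_mul, ih, hSQ t ht]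
  have hglin : ∀ t ∈ S, ∀ x, g (t * x) = t * g x := by
    intro t ht x
    rw [hg, hg, Finset.mul_sum]
    refine Finset.sum_congr rfl fun j _ => ?_
    rw [mul_pow, hfix t ht, mul_assoc]
  have hSL : ∀ (e : Module.Basis (Fin n) (ZMod r) D) (t : Fin n → D), (∀ j, t j ∈ S) →
      ∀ i : Fin l, A e t (f i) = (∑ j, t j * e j) ^ r ^ ((f i : Fin n) : ℕ) := by
    intro e t ht i
    rw [hA, sum_pow_char_pow]
    refine Finset.sum_congr rfl fun j _ => ?_
    rw [mul_pow, hfQ, hfix _ (ht j)]
  have hQw := (linear_preserver (σ := Fin n) S hS (by omega) (A bs).toLinearMap (A bs).surjective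
    L f hf (fun t ht => by
      simp only [LinearEquiv.coe_coe, hL, hSL bs t ht, hSL (bs.map g) t ht]
      rw [hN']
      simp [map_sum, hglin _ (ht _)])).2 hQ
  have hsupp : ∀ j m : Fin l, j ≠ m → a j * a m = 0 := by
    intro j m hjm
    by_contra hne
    obtain ⟨hj, hm⟩ := mul_ne_zero_iff.1 hne
    have hsingle : ∀ j : Fin l, a j ≠ 0 → ∀ i, i ≠ i0 → L (Pi.single (f j) 1) (f i) = 0 := by
      intro j hj i hi
      refine (mul_eq_zero.1 (hQw _ (fun i i' hii => ?_) i i0 hi)).resolve_right hj
      rcases eq_or_ne i j with rfl | hij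
      · rw [Pi.single_eq_of_ne (hf.ne (Ne.symm hii)), mul_zero]
      · rw [Pi.single_eq_of_ne (hf.ne hij), zero_mul]
    let v : Fin n → D := a m • Pi.single (f j) (1 : D) - a j • Pi.single (f m) (1 : D)
    have hLv : ∀ i, L v (f i) = 0 := by
      intro i
      simp only [v, map_sub, map_smul, Pi.sub_apply, Pi.smul_apply, smul_eq_mul]
      rcases eq_or_ne i i0 with rfl | hi
      · exact sub_eq_zero.2 (mul_comm _ _)
      · rw [hsingle j hj i hi, hsingle m hm i hi, mul_zero, mul_zero, sub_zero]
    have h2 := hbw.1 (L v) hLv j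
    rw [LinearEquiv.symm_apply_apply] at h2
    simp only [v, Pi.sub_apply, Pi.smul_apply, smul_eq_mul, Pi.single_eq_same,
      Pi.single_eq_of_ne (hf.ne hjm), mul_one, mul_zero, sub_zero] at h2
    exact hm h2
  obtain ⟨j, hj⟩ : ∃ j, a j ≠ 0 := by
    by_contra! h0
    exact one_ne_zero (g.injective (by rw [hg, map_zero]; simp [h0]) : (1 : D) = 0)
  refine ⟨a j, j, fun x => ?_⟩
  rw [hg, Finset.sum_eq_single j]
  · rw [mul_comm]
  · intro m _ hmj
    rw [(mul_eq_zero.1 (hsupp m j hmj)).resolve_right hj, mul_zero]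
  · exact fun h => absurd (Finset.mem_univ j) h

/-- A perfect group of norm preserving additive maps of `𝔽_{Q^l}`, `Q ≥ 3`, is trivial. -/
theorem eq_id_of_perfect_of_norm {K : Type*} [Group K] (hperf : commutator K = ⊤)
    (ρ : Representation (ZMod r) K D) {c l : ℕ} (hl : 0 < l)
    (hD : Fintype.card D = (r ^ c) ^ l) (hQ : 3 ≤ r ^ c)
    (hN : ∀ g x, (ρ g x) ^ (∑ i ∈ Finset.range l, (r ^ c) ^ i) =
      x ^ (∑ i ∈ Finset.range l, (r ^ c) ^ i)) : ∀ g x, ρ g x = x := by
  have hsemi : ∀ g, ∃ (a : D) (j : ℕ), ∀ x, ρ g x = a * x ^ (r ^ c) ^ j := fun g => by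
    refine eq_smul_frobenius_of_norm hl hD hQ (LinearEquiv.ofBijective (ρ g) ?_) (hN g)
    exact Function.bijective_iff_has_inverse.2 ⟨ρ g⁻¹, ρ.inv_self_apply g, ρ.self_inv_apply g⟩
  let T : Subgroup K :=
    { carrier := {g | ∀ x, ρ g x = ρ g 1 * x}
      one_mem' := fun x => by simp
      mul_mem' := fun {g h} hg hh x => by
        simp only [map_mul, Module.End.mul_apply]
        rw [hh x, hg (ρ h 1 * x), hg (ρ h 1)]
        ring
      inv_mem' := fun {g} hg x => by
        have h1 : ρ g (ρ g⁻¹ x) = ρ g (ρ g⁻¹ 1 * x) := by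
          rw [ρ.self_inv_apply, hg, ← mul_assoc, ← hg, ρ.self_inv_apply, one_mul]
        have h2 := congrArg (ρ g⁻¹) h1
        rwa [ρ.inv_self_apply, ρ.inv_self_apply] at h2 }
  have hT : commutator K ≤ T := by
    rw [commutator_eq_closure, Subgroup.closure_le]
    rintro _ ⟨g, h, rfl⟩
    obtain ⟨a, i, ha⟩ := hsemi g
    obtain ⟨b, j, hb⟩ := hsemi h
    have hgh : ∀ x, ρ (g * h) x = a * b ^ (r ^ c) ^ i * x ^ (r ^ c) ^ (i + j) := fun x => by
      rw [map_mul, Module.End.mul_apply, hb, ha, mul_pow, ← pow_mul x, ← pow_add, mul_assoc,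
        add_comm j i]
    have hhg : ∀ x, ρ (h * g) x = b * a ^ (r ^ c) ^ j * x ^ (r ^ c) ^ (i + j) := fun x => by
      rw [map_mul, Module.End.mul_apply, ha, hb, mul_pow, ← pow_mul x, ← pow_add, mul_assoc]
    have hne : b * a ^ (r ^ c) ^ j ≠ 0 := fun h0 => by
      have := hhg (ρ (h * g)⁻¹ 1)
      rw [ρ.self_inv_apply, h0, zero_mul] at this
      exact one_ne_zero this
    have key : ∀ y, ρ ⁅g, h⁆ y = a * b ^ (r ^ c) ^ i * (b * a ^ (r ^ c) ^ j)⁻¹ * y := fun y => by
      rw [show ⁅g, h⁆ = g * h * (h * g)⁻¹ by rw [commutatorElement_def]; group, map_mul,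
        Module.End.mul_apply, hgh]
      have hz := hhg (ρ (h * g)⁻¹ y)
      rw [ρ.self_inv_apply] at hz
      calc a * b ^ (r ^ c) ^ i * ρ (h * g)⁻¹ y ^ (r ^ c) ^ (i + j)
          = a * b ^ (r ^ c) ^ i * ((b * a ^ (r ^ c) ^ j)⁻¹ *
              (b * a ^ (r ^ c) ^ j * ρ (h * g)⁻¹ y ^ (r ^ c) ^ (i + j))) := by
            rw [inv_mul_cancel_left₀ hne]
        _ = a * b ^ (r ^ c) ^ i * (b * a ^ (r ^ c) ^ j)⁻¹ * y := by rw [← hz]; ring
    intro y
    rw [key y, key 1, mul_one]
  have hTtop : ∀ g, g ∈ T := fun g => hT (hperf ▸ Subgroup.mem_top g)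
  have hcomm : commutator K ≤ ρ.ker := by
    rw [commutator_eq_closure, Subgroup.closure_le]
    rintro _ ⟨g, h, rfl⟩
    have hsw : ρ (g * h) = ρ (h * g) := by
      refine LinearMap.ext fun x => ?_
      simp only [map_mul, Module.End.mul_apply]
      rw [hTtop g (ρ h x), hTtop h x, hTtop h (ρ g x), hTtop g x]
      ring
    rw [SetLike.mem_coe, MonoidHom.mem_ker,
      show ⁅g, h⁆ = g * h * (h * g)⁻¹ by rw [commutatorElement_def]; group, map_mul, hsw,
      ← map_mul, mul_inv_cancel, map_one]
  intro g x
  have := MonoidHom.mem_ker.1 (hcomm (hperf ▸ Subgroup.mem_top g))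
  rw [this, Module.End.one_apply]

end Field

end Cfsg.Agent.LinRep.NormPreserver
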