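import Cfsg.Agent.Lib.LinRep.PPowerOrbitsBasic
import Cfsg.Agent.Lib.LinRep.NormPreserver
import Cfsg.Agent.Lib.Transfer.Burnside
import Cfsg.Agent.Lib.Perm.PrimeDegree

/-!
# `P`-orbits: the case of a cyclic Sylow subgroup

`P` is semiregular, an element of `N(P)` not centralising `P` fixes exactly one nonzero vector in
each orbit, so the orbit size is `1 + Q + ⋯ + Q^(l-1)` and the orbits are fibres of a norm map.
-/

set_option autoImplicit false

namespace Cfsg.Agent.LinRep.PPowerOrbits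

open Cfsg.Agent.OrbitSpan (stab mem_stab)

theorem odd_pow_add_one {b : ℕ} (hb : Odd b) : ∀ j : ℕ,
    ∃ m, Odd m ∧ b ^ (2 * j + 1) + 1 = (b + 1) * m := by
  intro j
  induction j with
  | zero => exact ⟨1, odd_one, by simp⟩
  | succ j ih =>
    obtain ⟨m, hm, h⟩ := ih
    obtain ⟨i, rfl⟩ := hb
    have hm1 : 1 ≤ m := hm.pos
    have hle : 2 * i ≤ (2 * i + 1) ^ 2 * m := by nlinarith
    refine ⟨(2 * i + 1) ^ 2 * m - 2 * i, ?_, ?_⟩
    · rw [Nat.odd_sub hle]
      exact iff_of_true ((Odd.pow ⟨i, rfl⟩).mul hm) (by simp)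
    · have h2 : (2 * i + 1) ^ (2 * (j + 1) + 1) + 1 + (2 * i + 1 + 1) * (2 * i) =
          (2 * i + 1 + 1) * ((2 * i + 1) ^ 2 * m) := by
        linear_combination (2 * i + 1) ^ 2 * h
      rw [Nat.mul_sub]
      omega

/-- `b ^ e + 1` is a power of `2` only for `e ≤ 1` (`b ≥ 3` odd). -/
theorem eq_one_of_pow_add_one_eq_two_pow {b e t : ℕ} (hb : Odd b) (hb3 : 3 ≤ b) (he : e ≠ 0)
    (h : b ^ e + 1 = 2 ^ t) : e = 1 := by
  rcases Nat.even_or_odd e with ⟨j, hj⟩ | ⟨j, hj⟩
  · exfalso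
    obtain ⟨i, hi⟩ := hb.pow (n := j)
    have h4 : b ^ e + 1 = 4 * (i * (i + 1)) + 2 := by
      rw [hj, pow_add, hi]; ring
    have h3 : 3 ≤ b ^ e := hb3.trans (Nat.le_self_pow he b)
    rcases t with _ | _ | t
    · simp at h
      omega
    · rw [zero_add, pow_one] at h
      omega
    · rw [h] at h4
      have : 4 ∣ 2 ^ (t + 1 + 1) := ⟨2 ^ t, by ring⟩
      omega
  · rcases j with _ | j
    · omega
    exfalso
    subst hj
    obtain ⟨m, hm, hfac⟩ := odd_pow_add_one hb (j + 1)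
    obtain ⟨k, -, hk⟩ := (Nat.dvd_prime_pow Nat.prime_two).1
      (show m ∣ 2 ^ t from h ▸ hfac ▸ dvd_mul_left _ _)
    rcases k with _ | k
    · rw [hk, pow_zero, mul_one] at hfac
      have h3 : b < b ^ (2 * (j + 1) + 1) := by
        calc b = b ^ 1 := (pow_one b).symm
          _ < _ := Nat.pow_lt_pow_right (by omega) (by omega)
      omega
    · rw [hk] at hm
      exact absurd hm (by simp [Nat.odd_iff, Nat.pow_mod])

variable {q p : ℕ} [Fact q.Prime] [Fact p.Prime] {K V : Type*} [Group K] [Finite K]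
  [AddCommGroup V] [Module (ZMod q) V] [Finite V]

omit [Fact q.Prime] [Group K] [Finite K] in
theorem ne_of_dvd_card_of_coprime (hp : p ∣ Nat.card K) (hcop : (Nat.card K).Coprime q) : p ≠ q := by
  rintro rfl
  exact (Fact.out : p.Prime).ne_one (Nat.eq_one_of_dvd_coprimes hcop hp dvd_rfl)

omit [Finite K] in
/-- A transitive perfect group of odd order on a prime number of points is trivial. -/
theorem false_of_prime_degree {α : Type*} [Fintype α] [DecidableEq α]
    (hperf : commutator K = ⊤) (hodd : Odd (Nat.card K)) (f : K →* Equiv.Perm α)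
    (hcard : Fintype.card α = p) (hp2 : p ≠ 2) (htr : ∀ x y, ∃ g, f g x = y) : False := by
  have hp := Fact.out (p := p.Prime)
  have hpre : MulAction.IsPretransitive f.range α := ⟨fun x y => by
    obtain ⟨g, hg⟩ := htr x y
    exact ⟨⟨f g, g, rfl⟩, hg⟩⟩
  have hp3 : 2 < p := lt_of_le_of_ne hp.two_le (Ne.symm hp2)
  obtain ⟨a, b, hab⟩ := Fintype.one_lt_card_iff.1 (hcard ▸ hp.one_lt)
  by_cases hsol : Group.IsSolvable f.range
  · obtain ⟨g, hg⟩ := htr a b
    have h1 := map_eq_one_of_isSolvable hperf f.rangeRestrict g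
    have h2 := congrArg Subtype.val h1
    rw [MonoidHom.coe_rangeRestrict, OneMemClass.coe_one] at h2
    rw [h2, Equiv.Perm.one_apply] at hg
    exact hab hg
  · have h2 := Perm.PrimeDegree.twoTransitive_of_not_isSolvable (p := p) (G := f.range) hcard hsol
    obtain ⟨g, hga, hgb⟩ := MulAction.is_two_pretransitive_iff.1 h2 hab (Ne.symm hab)
    obtain ⟨g, g', rfl⟩ := g
    change f g' a = b at hga
    change f g' b = a at hgb
    have ho : Odd (orderOf (f g')) :=
      hodd.of_dvd_nat ((orderOf_map_dvd f g').trans (orderOf_dvd_natCard g'))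
    obtain ⟨j, hj⟩ := ho
    have hfix : ∀ n : ℕ, ((f g') ^ (2 * n)) a = a := by
      intro n
      induction n with
      | zero => simp
      | succ n ih =>
        rw [mul_add, pow_add, Equiv.Perm.mul_apply, show (f g') ^ (2 * 1) = f g' * f g' by
          rw [mul_one, pow_two], Equiv.Perm.mul_apply, hga, hgb, ih]
    have h1 := pow_orderOf_eq_one (f g')
    rw [hj, pow_succ', ] at h1
    have h3 := DFunLike.congr_fun h1 a
    rw [Equiv.Perm.mul_apply, hfix, hga, Equiv.Perm.one_apply] at h3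
    exact hab h3.symm

/-- A perfect group with the orbits of a cyclic Sylow subgroup irreducible on the module. -/
theorem false_of_cyclic (hperf : commutator K = ⊤) (hcop : (Nat.card K).Coprime q)
    (ρ : Representation (ZMod q) K V) (hinj : Function.Injective ρ) [Nontrivial V]
    (P : Sylow p K) (hne : (P : Subgroup K) ≠ ⊥) (hc : IsCyclic P)
    (hinv : ∀ g v, ∃ h ∈ (P : Subgroup K), ρ h v = ρ g v)
    (hirr : ∀ W : Submodule (ZMod q) V, (∀ h ∈ (P : Subgroup K), ∀ w ∈ W, ρ h w ∈ W) →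
      W = ⊥ ∨ W = ⊤) : False := by
  classical
  have hp := Fact.out (p := p.Prime)
  have hq := Fact.out (p := q.Prime)
  obtain ⟨u, hu⟩ := (Subgroup.isCyclic_iff_exists_zpowers_eq_top (P : Subgroup K)).1 hc
  obtain ⟨m, hm⟩ : ∃ m, orderOf u = p ^ m := by
    obtain ⟨m, hm⟩ := P.2.exists_card_eq
    rw [← hu, Nat.card_zpowers] at hm
    exact ⟨m, hm⟩
  have hm0 : m ≠ 0 := fun h => hne (by
    rw [← hu, Subgroup.zpowers_eq_bot, ← orderOf_eq_one_iff, hm, h, pow_zero])
  have hpK : p ∣ Nat.card K :=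
    (dvd_pow_self p hm0).trans (hm ▸ orderOf_dvd_natCard u)
  have hpq : p ≠ q := ne_of_dvd_card_of_coprime hpK hcop
  have hmem : ∀ n : ℕ, u ^ n ∈ (P : Subgroup K) := fun n =>
    hu ▸ pow_mem (Subgroup.mem_zpowers u) n
  have hpow : ∀ h ∈ (P : Subgroup K), ∃ n : ℕ, u ^ n = h := by
    intro h hh
    rw [← hu] at hh
    exact mem_powers_iff_mem_zpowers.2 hh
  have hcommP : ∀ a ∈ (P : Subgroup K), ∀ b ∈ (P : Subgroup K), a * b = b * a := by
    intro a ha b hb
    obtain ⟨i, rfl⟩ := hpow a ha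
    obtain ⟨j, rfl⟩ := hpow b hb
    exact ((Commute.refl u).pow_pow i j).eq
  -- irreducibility for `T = ρ u`
  have hirrT : ∀ W : Submodule (ZMod q) V, (∀ w ∈ W, ρ u w ∈ W) → W = ⊥ ∨ W = ⊤ := by
    intro W hW
    refine hirr W fun h hh w hw => ?_
    obtain ⟨n, rfl⟩ := hpow h hh
    clear hh
    induction n with
    | zero => simpa using hw
    | succ n ih =>
      rw [pow_succ', map_mul, Module.End.mul_apply]
      exact hW _ ih
  -- the element of order `p`
  set z := u ^ p ^ (m - 1) with hz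
  have hzo : orderOf z = p := by
    rw [hz, orderOf_pow_of_dvd (pow_ne_zero _ hp.ne_zero) (hm ▸ pow_dvd_pow p (Nat.sub_le m 1)),
      hm, Nat.pow_div (Nat.sub_le m 1) hp.pos, show m - (m - 1) = 1 by omega, pow_one]
  have hzfix : ∀ v, ρ z v = v → v = 0 := by
    intro v hv
    rcases hirr (fixSub ρ z) (fun h hh w hw => by
      rw [mem_fixSub] at hw ⊢
      rw [← Module.End.mul_apply, ← map_mul, hcommP z (hmem _) h hh, map_mul,
        Module.End.mul_apply, hw]) with hbot | htop
    · exact (Submodule.mem_bot _).1 (hbot ▸ mem_fixSub.2 hv)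
    · have h1 : z = 1 := hinj (by
        rw [map_one]; exact LinearMap.ext fun w => mem_fixSub.1 (htop ▸ Submodule.mem_top))
      rw [h1, orderOf_one] at hzo
      exact absurd hzo.symm hp.ne_one
  have huniq : ∀ x ∈ (P : Subgroup K), orderOf x = p → x ∈ Subgroup.zpowers z := by
    intro x hx hxo
    obtain ⟨n, rfl⟩ := hpow x hx
    have h1 : orderOf u ∣ n * p := by
      rw [orderOf_dvd_iff_pow_eq_one, pow_mul]
      exact hxo ▸ pow_orderOf_eq_one (u ^ n)
    rw [hm, show p ^ m = p ^ (m - 1) * p by rw [← pow_succ]; congr 1; omega] at h1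
    obtain ⟨d, rfl⟩ := Nat.dvd_of_mul_dvd_mul_right hp.pos h1
    rw [pow_mul, ← hz]
    exact pow_mem (Subgroup.mem_zpowers z) d
  have hsemi : ∀ h ∈ (P : Subgroup K), h ≠ 1 → ∀ v, ρ h v = v → v = 0 :=
    fun h hh h1 v hv => eq_zero_of_fixed P.2 hzo hzfix huniq hh h1 hv
  -- an element of order prime to `p` acting fixed-point-freely on `P`
  obtain ⟨n, hnN, hncop, hnC⟩ : ∃ n, n ∈ Subgroup.normalizer ((P : Subgroup K) : Set K) ∧
      (orderOf n).Coprime p ∧ n * u ≠ u * n := by
    by_contra hno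
    push Not at hno
    refine not_hasNormalPComplement hperf hpK
      (Transfer.hasNormalPComplement_of_normalizer_le_centralizer P fun g hg => ?_)
    set o := orderOf g with ho
    obtain ⟨A, b, hb, hob⟩ := Nat.exists_eq_pow_mul_and_not_dvd (orderOf_pos g).ne' p hp.ne_one
    rw [← ho] at hob
    have hbC : Commute (g ^ p ^ A) u := by
      refine hno _ (pow_mem hg _) ?_
      rw [orderOf_pow_of_dvd (pow_ne_zero _ hp.ne_zero) (show p ^ A ∣ orderOf g from ⟨b, by rw [← ho, hob]⟩), ← ho, hob,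
        Nat.mul_div_cancel_left _ (pow_pos hp.pos _), Nat.coprime_comm, hp.coprime_iff_not_dvd]
      exact hb
    have hpC : Commute (g ^ b) u := by
      have hgP : g ^ b ∈ (P : Subgroup K) := by
        have hsup : IsPGroup p ((P : Subgroup K) ⊔ Subgroup.zpowers (g ^ b) : Subgroup K) := by
          refine IsPGroup.to_sup_of_normal_left' P.2 ?_
            (Subgroup.zpowers_le.2 (pow_mem hg b))
          refine IsPGroup.of_card (n := A) ?_
          rw [Nat.card_zpowers, orderOf_pow_of_dvd (fun (h : b = 0) => hb (h.symm ▸ dvd_zero p))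
            (show b ∣ orderOf g from ⟨p ^ A, by rw [← ho, hob, mul_comm]⟩), ← ho, hob,
            Nat.mul_div_cancel]
          exact Nat.pos_of_ne_zero fun (h : b = 0) => hb (h.symm ▸ dvd_zero p)
        exact (P.3 hsup le_sup_left) ▸ Subgroup.mem_sup_right (Subgroup.mem_zpowers _)
      exact hcommP _ hgP u (hu ▸ Subgroup.mem_zpowers u)
    have hgu : Commute g u := by
      have hcb : Nat.Coprime (p ^ A) b := Nat.Coprime.pow_left A (hp.coprime_iff_not_dvd.2 hb)
      have hbez : (1 : ℤ) = (p ^ A : ℕ) * Nat.gcdA (p ^ A) b + (b : ℤ) * Nat.gcdB (p ^ A) b := by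
        rw [← Nat.gcd_eq_gcd_ab, hcb.gcd_eq_one]; rfl
      have hg1 : g = (g ^ p ^ A) ^ Nat.gcdA (p ^ A) b * (g ^ b) ^ Nat.gcdB (p ^ A) b := by
        rw [← zpow_natCast g (p ^ A), ← zpow_mul, ← zpow_natCast g b, ← zpow_mul, ← zpow_add,
          ← hbez, zpow_one]
      rw [hg1]
      exact (hbC.zpow_left _).mul_left (hpC.zpow_left _)
    rw [Subgroup.mem_centralizer_iff]
    intro h hh
    obtain ⟨i, rfl⟩ := hpow h hh
    exact (hgu.pow_right i).eq.symm
  have hconjmem : ∀ h ∈ (P : Subgroup K), n * h * n⁻¹ ∈ (P : Subgroup K) :=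
    fun h hh => (Subgroup.mem_normalizer_iff.1 hnN h).1 hh
  -- `n` centralises only `1`
  have hnfree : ∀ h ∈ (P : Subgroup K), n * h * n⁻¹ = h → h = 1 := by
    intro h hh hfix
    by_contra h1
    obtain ⟨j, hj⟩ := IsPGroup.iff_orderOf.1 P.2 ⟨h, hh⟩
    rw [Subgroup.orderOf_mk] at hj
    rcases j with _ | j
    · exact h1 (orderOf_eq_one_iff.1 (by simpa using hj))
    have hxo : orderOf (h ^ p ^ j) = p := by
      rw [orderOf_pow_of_dvd (pow_ne_zero _ hp.ne_zero) (hj ▸ ⟨p, by ring⟩), hj, pow_succ,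
        Nat.mul_div_cancel_left _ (pow_pos hp.pos _)]
    have hzeq : Subgroup.zpowers (h ^ p ^ j) = Subgroup.zpowers z :=
      Subgroup.eq_of_le_of_card_ge (Subgroup.zpowers_le.2 (huniq _ (pow_mem hh _) hxo))
        (by rw [Nat.card_zpowers, Nat.card_zpowers, hxo, hzo])
    obtain ⟨d, hd⟩ := Subgroup.mem_zpowers_iff.1
      (show z ∈ Subgroup.zpowers h from Subgroup.zpowers_le.2 (pow_mem (Subgroup.mem_zpowers h) _)
        (hzeq ▸ Subgroup.mem_zpowers z))
    have hnz : n * z * n⁻¹ = z := by rw [← hd, ← conj_zpow, hfix]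
    obtain ⟨k, hk⟩ := Subgroup.mem_zpowers_iff.1
      (show n * u * n⁻¹ ∈ Subgroup.zpowers u from
        hu.symm ▸ hconjmem u (hu ▸ Subgroup.mem_zpowers u))
    have hkz : u ^ (k * (p ^ (m - 1) : ℕ)) = u ^ ((p ^ (m - 1) : ℕ) : ℤ) := by
      rw [zpow_mul, hk, zpow_natCast, zpow_natCast, conj_pow, ← hz, hnz]
    rw [zpow_eq_zpow_iff_modEq, hm] at hkz
    have hdvd : (p : ℤ) ∣ k - 1 := by
      have h2 := hkz.symm.dvd
      push_cast at h2
      rw [show (p : ℤ) ^ m = p * (p : ℤ) ^ (m - 1) by rw [← pow_succ']; congr 1; omega,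
        show k * (p : ℤ) ^ (m - 1) - (p : ℤ) ^ (m - 1) = (k - 1) * (p : ℤ) ^ (m - 1) by ring] at h2
      exact Int.dvd_of_mul_dvd_mul_right (pow_ne_zero _ (by exact_mod_cast hp.ne_zero)) h2
    have hpow2 : (p : ℤ) ^ m ∣ k ^ p ^ (m - 1) - 1 := by
      have h2 := dvd_sub_pow_of_dvd_sub hdvd (m - 1)
      rwa [one_pow, show m - 1 + 1 = m by omega] at h2
    have hiter : ∀ i : ℕ, n ^ i * u * (n ^ i)⁻¹ = u ^ (k ^ i) := by
      intro i
      induction i with
      | zero => simp
      | succ i ih =>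
        calc n ^ (i + 1) * u * (n ^ (i + 1))⁻¹ = n * (n ^ i * u * (n ^ i)⁻¹) * n⁻¹ := by
              rw [pow_succ']; group
          _ = u ^ (k ^ (i + 1)) := by rw [ih, ← conj_zpow, ← hk, ← zpow_mul, pow_succ']
    have hcomm : Commute (n ^ p ^ (m - 1)) u := by
      refine mul_inv_eq_iff_eq_mul.1 ?_
      rw [hiter]
      conv_rhs => rw [← zpow_one u]
      rw [zpow_eq_zpow_iff_modEq, hm]
      push_cast
      exact (Int.modEq_iff_dvd.2 hpow2).symm
    obtain ⟨i, hi⟩ := exists_pow_eq_self_of_coprime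
      (Nat.Coprime.pow_left (m - 1) hncop.symm : Nat.Coprime (p ^ (m - 1)) (orderOf n))
    exact hnC (hi ▸ (hcomm.pow_left i)).eq
  -- every `P`-orbit meets `C(n)` exactly once
  have hexfix : ∀ x, ∃ h ∈ (P : Subgroup K), ρ n (ρ h x) = ρ h x := by
    intro x
    obtain ⟨h0, hh0, hx0⟩ := hinv n x
    let ψ : ↥(P : Subgroup K) → ↥(P : Subgroup K) := fun h =>
      ⟨(h : K)⁻¹ * (n * h * n⁻¹), mul_mem (inv_mem h.2) (hconjmem _ h.2)⟩
    have hψ : Function.Injective ψ := by
      intro a b hab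
      have h1 : (a : K)⁻¹ * (n * a * n⁻¹) = (b : K)⁻¹ * (n * b * n⁻¹) := congrArg Subtype.val hab
      have h2 : n * ((b : K)⁻¹ * a) * n⁻¹ = (b : K)⁻¹ * a := by
        calc n * ((b : K)⁻¹ * a) * n⁻¹ = (n * b * n⁻¹)⁻¹ * (n * a * n⁻¹) := by group
          _ = (n * b * n⁻¹)⁻¹ * ((a : K) * ((b : K)⁻¹ * (n * b * n⁻¹))) := by
            rw [← h1, mul_inv_cancel_left]
          _ = (b : K)⁻¹ * a := by
            rw [hcommP (a : K) a.2 _ (mul_mem (inv_mem b.2) (hconjmem _ b.2)), ← mul_assoc,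
              ← mul_assoc, hcommP _ (inv_mem (hconjmem _ b.2)) _ (inv_mem b.2),
              inv_mul_cancel_right]
      exact Subtype.ext (inv_mul_eq_one.1 (hnfree _ (mul_mem (inv_mem b.2) a.2) h2)).symm
    obtain ⟨h, hh⟩ := (Finite.injective_iff_surjective.1 hψ) ⟨h0⁻¹, inv_mem hh0⟩
    refine ⟨h, h.2, ?_⟩
    have hh' : (h : K)⁻¹ * (n * h * n⁻¹) = h0⁻¹ := congrArg Subtype.val hh
    rw [← Module.End.mul_apply, ← map_mul, show n * (h : K) = (n * h * n⁻¹) * n by group, map_mul,
      Module.End.mul_apply, ← hx0, ← Module.End.mul_apply, ← map_mul]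
    congr 2
    rw [show n * (h : K) * n⁻¹ = (h : K) * h0⁻¹ by rw [← hh', mul_inv_cancel_left],
      inv_mul_cancel_right]
  let W := fixSub ρ n
  let Φ : ↥(P : Subgroup K) × {y : V // y ∈ W ∧ y ≠ 0} →
      {x : V // x ∈ (⊤ : Submodule (ZMod q) V) ∧ x ≠ 0} :=
    fun r => ⟨ρ r.1 r.2, Submodule.mem_top, fun h0 => r.2.2.2 (by
      have := congrArg (ρ (r.1 : K)⁻¹) h0
      rwa [ρ.inv_self_apply, map_zero] at this)⟩
  have hΦ : Function.Bijective Φ := by
    constructor
    · rintro ⟨h, y, hy, hy0⟩ ⟨h', y', hy', hy0'⟩ heq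
      have h1 : ρ (h : K) y = ρ (h' : K) y' := congrArg Subtype.val heq
      rw [mem_fixSub] at hy hy'
      set d : K := (h' : K)⁻¹ * h with hd
      have hdP : d ∈ (P : Subgroup K) := mul_mem (inv_mem h'.2) h.2
      have h2 : ρ d y = y' := by
        rw [hd, map_mul, Module.End.mul_apply, h1, ρ.inv_self_apply]
      have h3 : ρ (n * d * n⁻¹) y = ρ d y := by
        have hninv : ρ n⁻¹ y = y := by
          conv_lhs => rw [← hy, ρ.inv_self_apply]
        rw [map_mul, Module.End.mul_apply, hninv, map_mul, Module.End.mul_apply, h2, hy']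
      have h4 := hnfree d hdP (inv_mul_eq_one_of_apply_eq hsemi (hconjmem d hdP) hdP hy0 h3)
      rw [h4, map_one, Module.End.one_apply] at h2
      have h5 : h' = h := Subtype.ext (inv_mul_eq_one.1 h4)
      subst h5 h2
      rfl
    · rintro ⟨x, -, hx⟩
      obtain ⟨h, hh, hfix⟩ := hexfix x
      refine ⟨⟨⟨h⁻¹, inv_mem hh⟩, ρ h x, mem_fixSub.2 hfix, fun h0 => hx ?_⟩, Subtype.ext ?_⟩
      · have := congrArg (ρ h⁻¹) h0
        rwa [ρ.inv_self_apply, map_zero] at this
      · exact ρ.inv_self_apply h x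
  have hcount := Nat.card_congr (Equiv.ofBijective Φ hΦ)
  rw [Nat.card_prod, card_ne_zero, card_ne_zero, ← hu, Nat.card_zpowers, hm] at hcount
  set c := Module.finrank (ZMod q) W with hc'
  set d := Module.finrank (ZMod q) V with hd'
  have hWc : Nat.card W = q ^ c := by
    rw [hc', Module.natCard_eq_pow_finrank (K := ZMod q), Nat.card_zmod]
  have hVc : Nat.card V = q ^ d := by
    rw [hd', Module.natCard_eq_pow_finrank (K := ZMod q), Nat.card_zmod]
  have hTop : Nat.card (⊤ : Submodule (ZMod q) V) = q ^ d :=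
    hVc ▸ Nat.card_congr Submodule.topEquiv.toEquiv
  rw [hWc, hTop] at hcount
  have hd0 : 0 < d := Module.finrank_pos
  have hqd : 2 ≤ q ^ d := hq.two_le.trans (Nat.le_self_pow hd0.ne' q)
  have hc0 : c ≠ 0 := fun h => by
    rw [h, pow_zero, Nat.sub_self, mul_zero] at hcount
    omega
  have hcd : c ∣ d := by
    have hdvd : q ^ c - 1 ∣ q ^ d - 1 := ⟨p ^ m, by rw [← hcount, mul_comm]⟩
    have hg := Nat.pow_sub_one_gcd_pow_sub_one q c d
    rw [Nat.gcd_eq_left hdvd] at hg
    have hgl : Nat.gcd c d = c := by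
      have h1 : q ^ Nat.gcd c d = q ^ c := by
        have h2 : 1 ≤ q ^ c := Nat.one_le_pow _ _ hq.pos
        have h3 : 1 ≤ q ^ Nat.gcd c d := Nat.one_le_pow _ _ hq.pos
        omega
      exact Nat.pow_right_injective hq.two_le h1
    exact hgl ▸ Nat.gcd_dvd_right c d
  obtain ⟨l, hl⟩ := hcd
  have hl0 : 0 < l := Nat.pos_of_ne_zero fun h => by rw [h, mul_zero] at hl; omega
  have hQ2 : 2 ≤ q ^ c := hq.two_le.trans (Nat.le_self_pow hc0 q)
  by_cases hQ : 3 ≤ q ^ c
  · -- the orbits are fibres of the norm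
    let v0 : V := (exists_ne (0 : V)).choose
    have hv0 : v0 ≠ 0 := (exists_ne (0 : V)).choose_spec
    open scoped IsMulCommutative in
    have : IsDomain (Algebra.adjoin (ZMod q) {ρ u}) := adjoin_isDomain hirrT
    have hev := adjoin_eval_bijective hirrT hv0
    have : Finite (Algebra.adjoin (ZMod q) {ρ u}) := Finite.of_injective _ hev.1
    let _ : Fintype (Algebra.adjoin (ZMod q) {ρ u}) := Fintype.ofFinite _
    open scoped IsMulCommutative in
    let _ : Field (Algebra.adjoin (ZMod q) {ρ u}) := Fintype.fieldOfDomain _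
    let e : Algebra.adjoin (ZMod q) {ρ u} ≃ₗ[ZMod q] V :=
      LinearEquiv.ofBijective
        ((LinearMap.applyₗ v0).comp (Algebra.adjoin (ZMod q) {ρ u}).val.toLinearMap) hev
    let σ : Representation (ZMod q) K (Algebra.adjoin (ZMod q) {ρ u}) :=
      { toFun := fun g => (e.symm.toLinearMap.comp (ρ g)).comp e.toLinearMap
        map_one' := by ext a : 1; simp
        map_mul' := fun g h => by ext a : 1; simp }
    have hσ : ∀ g x, σ g x = e.symm (ρ g (e x)) := fun g x => rfl
    let ζ : Algebra.adjoin (ZMod q) {ρ u} := ⟨ρ u, Algebra.subset_adjoin rfl⟩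
    have hζ : ∀ (i : ℕ) (x : Algebra.adjoin (ZMod q) {ρ u}), e (ζ ^ i * x) = ρ (u ^ i) (e x) := by
      intro i x
      rw [map_pow]
      rfl
    have hζo : ζ ^ p ^ m = 1 := Subtype.ext (by
      show ρ u ^ p ^ m = 1
      rw [← map_pow, ← hm, pow_orderOf_eq_one, map_one])
    have hgeom : ∑ i ∈ Finset.range l, (q ^ c) ^ i = p ^ m := by
      have h1 := geom_sum_mul_add (q ^ c - 1) l
      rw [Nat.sub_add_cancel (by omega : 1 ≤ q ^ c), ← pow_mul, ← hl] at h1
      have h2 : (∑ i ∈ Finset.range l, (q ^ c) ^ i) * (q ^ c - 1) = p ^ m * (q ^ c - 1) := by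
        omega
      exact Nat.eq_of_mul_eq_mul_right (by omega) h2
    have hcard : Fintype.card (Algebra.adjoin (ZMod q) {ρ u}) = (q ^ c) ^ l := by
      rw [← Nat.card_eq_fintype_card, Nat.card_congr e.toEquiv, hVc, hl, pow_mul]
    have hN : ∀ g x, (σ g x) ^ (∑ i ∈ Finset.range l, (q ^ c) ^ i) =
        x ^ (∑ i ∈ Finset.range l, (q ^ c) ^ i) := by
      intro g x
      obtain ⟨h, hh, hhv⟩ := hinv g (e x)
      obtain ⟨i, rfl⟩ := hpow h hh
      rw [hσ, ← hhv, ← hζ, LinearEquiv.symm_apply_apply, hgeom, mul_pow, ← pow_mul ζ, mul_comm i,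
        pow_mul, hζo, one_pow, one_mul]
    have htriv := NormPreserver.eq_id_of_perfect_of_norm (r := q) hperf σ hl0 hcard hQ hN
    have hu1 : u = 1 := hinj (by
      rw [map_one]
      refine LinearMap.ext fun v => ?_
      have h1 := htriv u (e.symm v)
      rw [hσ, LinearEquiv.apply_symm_apply] at h1
      exact e.symm.injective h1)
    exact hne (by rw [← hu, hu1, Subgroup.zpowers_one_eq_bot])
  · -- `Q = 2`: all nonzero vectors form one orbit of prime size
    have hQeq : q ^ c = 2 := by omega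
    have hq2 : q = 2 := by
      have := Nat.le_self_pow hc0 q
      have := hq.two_le
      omega
    rw [hQeq] at hcount
    norm_num at hcount
    have hp2 : p ≠ 2 := hq2 ▸ hpq
    have hm1 : m = 1 := by
      refine eq_one_of_pow_add_one_eq_two_pow (hp.odd_of_ne_two hp2)
        (lt_of_le_of_ne hp.two_le (Ne.symm hp2)) hm0 (t := d) ?_
      subst hq2
      omega
    let _ : Fintype V := Fintype.ofFinite V
    let f : K →* Equiv.Perm {v : V // v ≠ 0} :=
      { toFun := fun g =>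
          { toFun := fun v => ⟨ρ g v, fun h0 => v.2 (by
              have := congrArg (ρ g⁻¹) h0
              rwa [ρ.inv_self_apply, map_zero] at this)⟩
            invFun := fun v => ⟨ρ g⁻¹ v, fun h0 => v.2 (by
              have := congrArg (ρ g) h0
              rwa [ρ.self_inv_apply, map_zero] at this)⟩
            left_inv := fun v => Subtype.ext (ρ.inv_self_apply g v)
            right_inv := fun v => Subtype.ext (ρ.self_inv_apply g v) }
        map_one' := by ext v; simp
        map_mul' := fun g h => by ext v; simp }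
    have hodd : Odd (Nat.card K) := by
      rw [hq2, Nat.coprime_two_right] at hcop
      exact hcop
    refine false_of_prime_degree (p := p) hperf hodd f ?_ hp2 ?_
    · rw [← Nat.card_eq_fintype_card]
      have h1 := card_ne_zero (⊤ : Submodule (ZMod q) V)
      rw [hTop, ← hcount, hm1, pow_one] at h1
      rw [← h1]
      exact Nat.card_congr (Equiv.subtypeEquivRight (by simp))
    · intro x y
      have h1 : (1 : ℕ) = Nat.card {v : V // v ∈ W ∧ v ≠ 0} := by
        rw [card_ne_zero, hWc, hQeq]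
      have hsub : Subsingleton {v : V // v ∈ W ∧ v ≠ 0} :=
        (Nat.card_eq_one_iff_unique.1 h1.symm).1
      obtain ⟨⟨a, ya⟩, hax⟩ := hΦ.2 ⟨x, Submodule.mem_top, x.2⟩
      obtain ⟨⟨b, yb⟩, hby⟩ := hΦ.2 ⟨y, Submodule.mem_top, y.2⟩
      have hax' : ρ (a : K) ya = x := congrArg Subtype.val hax
      have hby' : ρ (b : K) yb = y := congrArg Subtype.val hby
      refine ⟨(b : K) * (a : K)⁻¹, Subtype.ext ?_⟩
      show ρ ((b : K) * (a : K)⁻¹) x = y
      rw [← hax', map_mul, Module.End.mul_apply, ρ.inv_self_apply, Subsingleton.elim ya yb, hby']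

end Cfsg.Agent.LinRep.PPowerOrbits
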