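import Cfsg.Agent.Lib.LinRep.PPowerOrbitsBasic
import Cfsg.Agent.Lib.LinRep.PPowerOrbitsCyclic
import Cfsg.Agent.Lib.Transfer.Thompson
import Cfsg.Agent.Lib.Transfer.MinimalNonPNilpotent

/-!
# `P`-orbits: the case of a Sylow `2`-subgroup with a cyclic subgroup of index `2`

`P` is generalised quaternion and semiregular. An element of odd order normalising, not centralising,
a subgroup of `P` fixes at most half the space but meets every orbit twice; comparing with the
field generated by the cyclic subgroup forces dimension 2, where it is unipotent.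
-/

set_option autoImplicit false

namespace Cfsg.Agent.LinRep.PPowerOrbits

open Cfsg.Agent.OrbitSpan (stab mem_stab)

/-- Conjugation by `φ` restricted to the algebra generated by `T`. -/
theorem exists_conj_algHom {k V : Type*} [Field k] [AddCommGroup V] [Module k V]
    {T : Module.End k V} (φ : V ≃ₗ[k] V) {j : ℕ} (hφ : ∀ v, φ (T (φ.symm v)) = (T ^ j) v) :
    ∃ θ : Algebra.adjoin k {T} →ₐ[k] Algebra.adjoin k {T},
      θ ⟨T, Algebra.subset_adjoin rfl⟩ = ⟨T, Algebra.subset_adjoin rfl⟩ ^ j := by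
  let C : Module.End k V →ₐ[k] Module.End k V :=
    AlgHom.ofLinearMap φ.conj.toLinearMap φ.conj_id (fun f g => φ.conj_comp g f)
  have hconj : C T = T ^ j := LinearMap.ext hφ
  have hle : Algebra.adjoin k {T} ≤ (Algebra.adjoin k {T}).comap C := by
    refine Algebra.adjoin_le fun x hx => ?_
    rw [Set.mem_singleton_iff.1 hx, SetLike.mem_coe, Subalgebra.mem_comap, hconj]
    exact pow_mem (Algebra.subset_adjoin (Set.mem_singleton T)) j
  exact ⟨(C.comp (Algebra.adjoin k {T}).val).codRestrict _ fun a => hle a.2,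
    Subtype.ext hconj⟩

section Field

variable {q : ℕ} [Fact q.Prime] {V : Type*} [AddCommGroup V] [Module (ZMod q) V] [Finite V]
  [Nontrivial V] {T : Module.End (ZMod q) V}
  (hirr : ∀ W : Submodule (ZMod q) V, (∀ w ∈ W, T w ∈ W) → W = ⊥ ∨ W = ⊤)

include hirr

open scoped IsMulCommutative in
theorem orderOf_dvd_pow_sub_one (hT : T ≠ 0) :
    orderOf T ∣ q ^ Module.finrank (ZMod q) V - 1 := by
  classical
  obtain ⟨v, hv⟩ := exists_ne (0 : V)
  have := adjoin_isDomain hirr
  have hev := adjoin_eval_bijective hirr hv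
  have : Finite (Algebra.adjoin (ZMod q) {T}) := Finite.of_injective _ hev.1
  let _ : Fintype (Algebra.adjoin (ZMod q) {T}) := Fintype.ofFinite _
  let _ : Field (Algebra.adjoin (ZMod q) {T}) := Fintype.fieldOfDomain _
  let ζ : Algebra.adjoin (ZMod q) {T} := ⟨T, Algebra.subset_adjoin rfl⟩
  have hζ : ζ ≠ 0 := fun h => hT (congrArg Subtype.val h)
  have h1 := FiniteField.pow_card_sub_one_eq_one ζ hζ
  have hcard : Fintype.card (Algebra.adjoin (ZMod q) {T}) = q ^ Module.finrank (ZMod q) V := by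
    rw [← Nat.card_eq_fintype_card, Nat.card_congr (Equiv.ofBijective _ hev),
      Module.natCard_eq_pow_finrank (K := ZMod q), Nat.card_zmod]
  rw [hcard] at h1
  refine orderOf_dvd_of_pow_eq_one ?_
  have h2 := congrArg Subtype.val h1
  rw [SubmonoidClass.coe_pow, OneMemClass.coe_one] at h2
  exact h2

open scoped IsMulCommutative in
theorem orderOf_dvd_pow_add_one (φ : V ≃ₗ[ZMod q] V) {j : ℕ} (hj : T ^ (j + 1) = 1)
    (hne : T ^ j ≠ T) (hφ : ∀ v, φ (T (φ.symm v)) = (T ^ j) v) :
    ∃ s, Module.finrank (ZMod q) V = 2 * s ∧ orderOf T ∣ q ^ s + 1 := by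
  classical
  obtain ⟨v, hv⟩ := exists_ne (0 : V)
  obtain ⟨θ, hθ⟩ := exists_conj_algHom φ hφ
  have := adjoin_isDomain hirr
  have hev := adjoin_eval_bijective hirr hv
  have : Finite (Algebra.adjoin (ZMod q) {T}) := Finite.of_injective _ hev.1
  let _ : Fintype (Algebra.adjoin (ZMod q) {T}) := Fintype.ofFinite _
  let _ : Field (Algebra.adjoin (ZMod q) {T}) := Fintype.fieldOfDomain _
  let ζ : Algebra.adjoin (ZMod q) {T} := ⟨T, Algebra.subset_adjoin rfl⟩
  have hrank : Module.finrank (ZMod q) (Algebra.adjoin (ZMod q) {T}) =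
      Module.finrank (ZMod q) V :=
    (LinearEquiv.ofBijective
      ((LinearMap.applyₗ v).comp (Algebra.adjoin (ZMod q) {T}).val.toLinearMap) hev).finrank_eq
  obtain ⟨⟨i, hi⟩, hfrob⟩ :=
    (FiniteField.bijective_frobeniusAlgHom_pow (ZMod q) (Algebra.adjoin (ZMod q) {T})).2 θ
  simp only at hfrob
  have happ : ∀ (n : ℕ) (x : Algebra.adjoin (ZMod q) {T}),
      (FiniteField.frobeniusAlgHom (ZMod q) (Algebra.adjoin (ZMod q) {T}) ^ n) x = x ^ q ^ n := by
    intro n x
    rw [AlgHom.coe_pow, FiniteField.coe_frobeniusAlgHom, pow_iterate]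
    simp only [ZMod.card]
  have hζj : ζ ^ (j + 1) = 1 := Subtype.ext hj
  have h1 : ζ ^ q ^ i = ζ ^ j := by rw [← hθ, ← hfrob, happ]
  have hi0 : i ≠ 0 := fun h => by
    rw [h, pow_zero, pow_one] at h1
    exact hne (congrArg Subtype.val h1).symm
  have h2 : ζ ^ q ^ (2 * i) = ζ := by
    rw [two_mul, pow_add, pow_mul, h1, ← pow_mul, mul_comm j, pow_mul, h1, ← pow_mul]
    have h3 : ζ ^ (j * j) * ζ ^ j = ζ * ζ ^ j := by
      rw [← pow_add, ← pow_succ', show j * j + j = (j + 1) * j by ring, pow_mul, hζj, one_pow]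
    exact mul_right_cancel₀ (fun h0 => one_ne_zero (α := Algebra.adjoin (ZMod q) {T})
      (by rw [← hζj, pow_succ, h0, zero_mul])) h3
  have h4 : FiniteField.frobeniusAlgHom (ZMod q) (Algebra.adjoin (ZMod q) {T}) ^ (2 * i) = 1 := by
    refine AlgHom.adjoin_ext fun x hx => ?_
    obtain rfl := Set.mem_singleton_iff.1 hx
    rw [happ, AlgHom.one_apply]
    exact h2
  have h5 := orderOf_dvd_of_pow_eq_one h4
  rw [FiniteField.orderOf_frobeniusAlgHom] at h5
  obtain ⟨e, he⟩ := h5
  have he1 : e = 1 := by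
    rcases e with _ | _ | e
    · omega
    · rfl
    · exfalso
      nlinarith
  subst he1
  refine ⟨i, by omega, orderOf_dvd_of_pow_eq_one ?_⟩
  have h6 : ζ ^ (q ^ i + 1) = 1 := by rw [pow_succ, h1, ← pow_succ, hζj]
  have h7 := congrArg Subtype.val h6
  rw [SubmonoidClass.coe_pow, OneMemClass.coe_one] at h7
  exact h7

end Field

variable {q : ℕ} [Fact q.Prime] {K V : Type*} [Group K] [Finite K]
  [AddCommGroup V] [Module (ZMod q) V] [Finite V]

/-- A perfect group with the orbits of a Sylow `2`-subgroup with a cyclic subgroup of index `2`,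
irreducible on the module. -/
theorem false_of_index_two (hperf : commutator K = ⊤) (hcop : (Nat.card K).Coprime q)
    (ρ : Representation (ZMod q) K V) (hinj : Function.Injective ρ) [Nontrivial V]
    (P : Sylow 2 K) (hne : (P : Subgroup K) ≠ ⊥) (hncyc : ¬ IsCyclic P)
    (M : Subgroup P) (hMc : IsCyclic M) (hMi : M.index = 2)
    (hinv : ∀ g v, ∃ h ∈ (P : Subgroup K), ρ h v = ρ g v)
    (hirr : ∀ W : Submodule (ZMod q) V, (∀ h ∈ (P : Subgroup K), ∀ w ∈ W, ρ h w ∈ W) →
      W = ⊥ ∨ W = ⊤) : False := by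
  classical
  have h2fact : Fact (Nat.Prime 2) := ⟨Nat.prime_two⟩
  have hq := Fact.out (p := q.Prime)
  have h2K : 2 ∣ Nat.card K := by
    obtain ⟨n, hn⟩ := P.2.exists_card_eq
    rcases n with _ | n
    · exact absurd (Subgroup.card_eq_one.1 (by simpa using hn)) hne
    · exact (hn ▸ dvd_pow_self 2 n.succ_ne_zero : 2 ∣ Nat.card P).trans
        (Subgroup.card_subgroup_dvd_card _)
  have hq2 : q ≠ 2 := (ne_of_dvd_card_of_coprime (p := 2) h2K hcop).symm
  obtain ⟨u', hu'⟩ := (Subgroup.isCyclic_iff_exists_zpowers_eq_top M).1 hMc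
  subst hu'
  have hMn : (Subgroup.zpowers u').Normal := Subgroup.normal_of_index_eq_two hMi
  obtain ⟨m, hm⟩ := IsPGroup.iff_orderOf.1 P.2 u'
  have hm0 : m ≠ 0 := fun h => hncyc (by
    have hc : Nat.card P = 2 := by
      rw [← Subgroup.card_mul_index (Subgroup.zpowers u'), Nat.card_zpowers, hm, h, pow_zero,
        one_mul, hMi]
    exact isCyclic_of_prime_card hc)
  set z' : P := u' ^ 2 ^ (m - 1) with hz'
  have hz'o : orderOf z' = 2 := by
    rw [hz', orderOf_pow_of_dvd (pow_ne_zero _ two_ne_zero) (hm ▸ pow_dvd_pow 2 (Nat.sub_le m 1)),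
      hm, Nat.pow_div (Nat.sub_le m 1) two_pos, show m - (m - 1) = 1 by omega, pow_one]
  have hz'sq : z' ^ 2 = 1 := by
    have h2 := pow_orderOf_eq_one z'
    rwa [hz'o] at h2
  have huniqM : ∀ x ∈ Subgroup.zpowers u', orderOf x = 2 → x = z' := by
    intro x hx hxo
    obtain ⟨n, rfl⟩ := mem_powers_iff_mem_zpowers.2 hx
    have h1 : orderOf u' ∣ n * 2 := by
      rw [orderOf_dvd_iff_pow_eq_one, pow_mul]
      have h2 := pow_orderOf_eq_one (u' ^ n)
      rwa [hxo] at h2
    rw [hm, show 2 ^ m = 2 ^ (m - 1) * 2 by rw [← pow_succ]; congr 1; omega] at h1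
    obtain ⟨d, rfl⟩ := Nat.dvd_of_mul_dvd_mul_right two_pos h1
    have hzd : u' ^ (2 ^ (m - 1) * d) = z' ^ d := by rw [pow_mul]
    show u' ^ (2 ^ (m - 1) * d) = z'
    rw [hzd]
    rcases Nat.even_or_odd d with ⟨e, he⟩ | ⟨e, he⟩
    · exfalso
      have h2 : (fun n => u' ^ n) (2 ^ (m - 1) * d) = 1 := by
        show u' ^ (2 ^ (m - 1) * d) = 1
        rw [hzd, he, ← two_mul, pow_mul, hz'sq, one_pow]
      rw [h2, orderOf_one] at hxo
      omega
    · rw [he, pow_succ, pow_mul, hz'sq, one_pow, one_mul]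
  have hz'c : ∀ h : P, h * z' = z' * h := by
    intro h
    have h1 := huniqM _ (hMn.conj_mem z' (pow_mem (Subgroup.mem_zpowers u') _) h)
      ((orderOf_injective (MulAut.conj h).toMonoidHom (MulAut.conj h).injective z').trans hz'o)
    calc h * z' = h * z' * h⁻¹ * h := by group
      _ = z' * h := by rw [h1]
  set z : K := (z' : K) with hz
  have hzo : orderOf z = 2 := by rw [hz, Subgroup.orderOf_coe, hz'o]
  have hzfix : ∀ v, ρ z v = v → v = 0 := by
    intro v hv
    rcases hirr (fixSub ρ z) (fun h hh w hw => by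
      rw [mem_fixSub] at hw ⊢
      rw [← Module.End.mul_apply, ← map_mul,
        show z * h = h * z from (congrArg Subtype.val (hz'c ⟨h, hh⟩)).symm, map_mul,
        Module.End.mul_apply, hw]) with hbot | htop
    · exact (Submodule.mem_bot _).1 (hbot ▸ mem_fixSub.2 hv)
    · have h1 : z = 1 := hinj (by
        rw [map_one]; exact LinearMap.ext fun w => mem_fixSub.1 (htop ▸ Submodule.mem_top))
      rw [h1, orderOf_one] at hzo
      omega
  have hzneg : ∀ v, ρ z v = -v := by
    intro v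
    have h : v + ρ z v = 0 := hzfix _ (by
      have hzz : ρ z (ρ z v) = v := by
        have hz2 : z * z = 1 := by
          have h2 := congrArg Subtype.val hz'sq
          simpa [hz, pow_two] using h2
        rw [← Module.End.mul_apply, ← map_mul, hz2, map_one, Module.End.one_apply]
      rw [map_add, hzz, add_comm])
    exact eq_neg_of_add_eq_zero_right h
  have hzcen : ∀ g : K, g * z = z * g := fun g => hinj (LinearMap.ext fun v => by
    rw [map_mul, map_mul, Module.End.mul_apply, Module.End.mul_apply, hzneg, map_neg, hzneg])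
  -- the only involution of `P` is `z`
  have hinvol : ∀ x : P, orderOf x = 2 → x = z' := by
    intro x hx
    have hQP : (Subgroup.zpowers u').map (P : Subgroup K).subtype ≤ (P : Subgroup K) :=
      Subgroup.map_subtype_le _
    have hQi : ((Subgroup.zpowers u').map (P : Subgroup K).subtype).relIndex (P : Subgroup K) = 2 := by
      rw [Subgroup.relIndex, Subgroup.subgroupOf,
        Subgroup.comap_map_eq_self_of_injective (P : Subgroup K).subtype_injective, hMi]
    have hx2 : (x : K) ^ 2 = 1 := by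
      have h2 := pow_orderOf_eq_one (x : K)
      rwa [Subgroup.orderOf_coe, hx] at h2
    obtain ⟨g, y, hy, hyg⟩ :
        ∃ g : K, ∃ y ∈ Subgroup.zpowers u', (y : K) = g * x * g⁻¹ := by
      by_contra hcon
      push Not at hcon
      by_cases hxQ : (x : K) ∈ (Subgroup.zpowers u').map (P : Subgroup K).subtype
      · obtain ⟨y, hy, hyx⟩ := hxQ
        exact hcon 1 y hy (by simpa using hyx)
      obtain ⟨N, hN, hidx, hxN⟩ := Transfer.exists_index_two_of_involution P _ hQP hQi (x : K)
        hx2 x.2 hxQ (fun g hg => by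
          obtain ⟨y, hy, hyx⟩ := hg
          exact hcon g y hy hyx)
      have hc2 : Nat.card (K ⧸ N) = 2 := by rw [← Subgroup.index_eq_card, hidx]
      have hnil : Group.IsNilpotent (K ⧸ N) :=
        (IsPGroup.of_card (p := 2) (n := 1) (by rw [hc2, pow_one])).isNilpotent
      exact hxN ((QuotientGroup.eq_one_iff _).1
        (map_eq_one_of_isSolvable hperf (QuotientGroup.mk' N) (x : K)))
    have hyo : orderOf y = 2 := by
      rw [← Subgroup.orderOf_coe, hyg]
      exact ((orderOf_injective (MulAut.conj g).toMonoidHom (MulAut.conj g).injective (x : K)).trans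
        (Subgroup.orderOf_coe x)).trans hx
    have hyz := huniqM y hy hyo
    subst hyz
    apply Subtype.ext
    calc (x : K) = g⁻¹ * (g * x * g⁻¹) * g := by group
      _ = g⁻¹ * (z * g) := by rw [← hyg, mul_assoc, ← hz]
      _ = z := by rw [← hzcen, inv_mul_cancel_left]
  have huniq : ∀ H H' : Subgroup P, Nat.card H = 2 → Nat.card H' = 2 → H = H' := by
    have key : ∀ H : Subgroup P, Nat.card H = 2 → H = Subgroup.zpowers z' := by
      intro H hH
      obtain ⟨x, hx⟩ := exists_prime_orderOf_dvd_card' (G := H) 2 (by rw [hH])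
      have hxz : (x : P) = z' := hinvol x (by rw [Subgroup.orderOf_coe, hx])
      exact (Subgroup.eq_of_le_of_card_ge (Subgroup.zpowers_le.2 (hxz ▸ x.2))
        (by rw [hH, Nat.card_zpowers, hz'o])).symm
    intro H H' hH hH'
    rw [key H hH, key H' hH']
  -- `P` is generalised quaternion
  have hself : Subgroup.centralizer (Subgroup.zpowers u' : Set P) = Subgroup.zpowers u' := by
    refine le_antisymm (fun x hx => ?_)
      (PGroup.le_centralizer_of_isMulCommutative inferInstance)
    by_contra hxM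
    refine hncyc (PGroup.isCyclic_of_unique_of_isMulCommutative P.2 huniq ⟨⟨fun a b => ?_⟩⟩)
    have hxu : Commute u' x := Subgroup.mem_centralizer_iff.1 hx u' (Subgroup.mem_zpowers u')
    have key : ∀ a : P, ∃ e n : ℤ, a = x ^ e * u' ^ n := by
      intro a
      by_cases ha : a ∈ Subgroup.zpowers u'
      · obtain ⟨n, rfl⟩ := ha
        exact ⟨0, n, by simp⟩
      · have h1 : x⁻¹ * a ∈ Subgroup.zpowers u' := by
          rw [Subgroup.mul_mem_iff_of_index_two hMi, inv_mem_iff]
          exact iff_of_false hxM ha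
        obtain ⟨n, hn⟩ := h1
        exact ⟨1, n, by simp only at hn; rw [zpow_one, hn, mul_inv_cancel_left]⟩
    obtain ⟨e, n, rfl⟩ := key a
    obtain ⟨e', n', rfl⟩ := key b
    exact Commute.mul_left
      (((Commute.refl x).zpow_zpow e e').mul_right (hxu.symm.zpow_zpow e n'))
      ((hxu.zpow_zpow n e').mul_right ((Commute.refl u').zpow_zpow n n'))
  obtain ⟨w', hw'⟩ : ∃ w' : P, w' ∉ Subgroup.zpowers u' := by
    by_contra! h
    have : Subgroup.zpowers u' = ⊤ := eq_top_iff.2 fun x _ => h x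
    rw [this, Subgroup.index_top] at hMi
    omega
  have hw2 : w' ^ 2 ∈ Subgroup.zpowers u' := PGroup.pow_mem_of_index_eq _ hMi w'
  obtain ⟨-, hwu, m', hm'2, hm', -⟩ := PGroup.inverts_of_unique P.2 huniq hself hw' hw2
  have hmm : m' = m := Nat.pow_right_injective le_rfl (hm'.symm.trans hm)
  subst hmm
  have hcardP : Nat.card (P : Subgroup K) = 2 ^ (m' + 1) := by
    rw [← Subgroup.card_mul_index (Subgroup.zpowers u'), Nat.card_zpowers, hm, hMi, pow_succ]
  set u : K := (u' : K) with hu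
  set w : K := (w' : K) with hw
  have huo : orderOf u = 2 ^ m' := by rw [hu, Subgroup.orderOf_coe, hm]
  have hwuK : w * u * w⁻¹ = u⁻¹ := by
    have := congrArg Subtype.val hwu
    simpa [hu, hw] using this
  have hsemi : ∀ h ∈ (P : Subgroup K), h ≠ 1 → ∀ v, ρ h v = v → v = 0 := by
    intro h hh h1 v hv
    refine eq_zero_of_fixed P.2 hzo hzfix (fun x hx hxo => ?_) hh h1 hv
    have hxz : (⟨x, hx⟩ : P) = z' := hinvol _ (by rw [Subgroup.orderOf_mk, hxo])
    have hxz' : x = z := congrArg Subtype.val hxz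
    rw [hxz']
    exact Subgroup.mem_zpowers z
  -- an element of odd order with small fixed space meeting all orbits
  obtain ⟨Q, h, r, k, hQP, hr, hr2, hho, hhN, hhC⟩ :=
    Transfer.exists_prime_pow_not_centralize P (not_hasNormalPComplement hperf h2K)
  obtain ⟨y, hyQ, hyh⟩ : ∃ y ∈ Q, y * h ≠ h * y := by
    by_contra! hcon
    exact hhC (Subgroup.mem_centralizer_iff.2 hcon)
  set W := fixSub ρ h with hW
  set a := Module.finrank (ZMod q) W with ha
  set d := Module.finrank (ZMod q) V with hd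
  have had : 2 * a ≤ d := by
    let φ : V →ₗ[ZMod q] V := ρ y
    have hφ : Function.Injective φ :=
      Function.LeftInverse.injective (g := ρ y⁻¹) (ρ.inv_self_apply y)
    have hdisj : W ⊓ W.map φ = ⊥ := by
      rw [eq_bot_iff]
      rintro v ⟨hv, x, hx, rfl⟩
      rw [SetLike.mem_coe, hW, mem_fixSub] at hv hx
      change ρ h (ρ y x) = ρ y x at hv
      refine (Submodule.mem_bot _).2 (hsemi (h * y * h⁻¹ * y⁻¹)
        (hQP (mul_mem ((Subgroup.mem_normalizer_iff.1 hhN y).1 hyQ) (inv_mem hyQ))) ?_ _ ?_)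
      · intro h1
        refine hyh ?_
        calc y * h = (h * y * h⁻¹ * y⁻¹)⁻¹ * (h * y) := by group
          _ = h * y := by rw [h1, inv_one, one_mul]
      · have hx' : ρ h⁻¹ x = x := by
          conv_lhs => rw [← hx, ρ.inv_self_apply]
        show ρ (h * y * h⁻¹ * y⁻¹) (ρ y x) = ρ y x
        rw [map_mul, Module.End.mul_apply, ρ.inv_self_apply, map_mul, Module.End.mul_apply, hx',
          map_mul, Module.End.mul_apply, hv]
    have h1 := Submodule.finrank_sup_add_finrank_inf_eq W (W.map φ)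
    rw [hdisj, finrank_bot, add_zero,
      (Submodule.equivMapOfInjective φ hφ W).finrank_eq.symm] at h1
    have h2 := Submodule.finrank_le (W ⊔ W.map φ)
    omega
  have hmeet : ∀ x : V, x ≠ 0 → ∃ p0 ∈ (P : Subgroup K), ρ h (ρ p0 x) = ρ p0 x := by
    intro x hx
    have hex : ∀ p1 : ↥(P : Subgroup K), ∃ p2 : ↥(P : Subgroup K),
        ρ (p2 : K) x = ρ h (ρ (p1 : K) x) := by
      intro p1
      obtain ⟨p2, hp2, h2⟩ := hinv (h * p1) x
      exact ⟨⟨p2, hp2⟩, by rw [h2, map_mul, Module.End.mul_apply]⟩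
    choose σ hσ using hex
    have hσinj : Function.Injective σ := by
      intro p1 p2 heq
      have h1 := hσ p1
      rw [heq, hσ p2] at h1
      have h2 := congrArg (ρ h⁻¹) h1
      rw [ρ.inv_self_apply, ρ.inv_self_apply] at h2
      exact Subtype.ext (inv_mul_eq_one_of_apply_eq hsemi p1.2 p2.2 hx h2.symm)
    let σ' : Equiv.Perm ↥(P : Subgroup K) :=
      Equiv.ofBijective σ ⟨hσinj, Finite.injective_iff_surjective.1 hσinj⟩
    have hiter : ∀ (n : ℕ) (p1 : ↥(P : Subgroup K)),
        ρ (((σ' ^ n) p1 : ↥(P : Subgroup K)) : K) x = ρ (h ^ n) (ρ (p1 : K) x) := by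
      intro n p1
      induction n with
      | zero => simp
      | succ n ih =>
        rw [pow_succ', Equiv.Perm.mul_apply, pow_succ', map_mul ρ h, Module.End.mul_apply, ← ih]
        exact hσ _
    have hone : σ' ^ r ^ k = 1 := Equiv.ext fun p1 => Subtype.ext (by
      refine inv_mul_eq_one_of_apply_eq hsemi (SetLike.coe_mem _) p1.2 hx ?_
      rw [hiter, ← hho, pow_orderOf_eq_one, map_one, Module.End.one_apply]
      rfl)
    have : Fact r.Prime := ⟨hr⟩
    let _ : Fintype ↥(P : Subgroup K) := Fintype.ofFinite _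
    obtain ⟨p1, hp1⟩ := Equiv.Perm.exists_fixed_point_of_prime (p := r) (n := k)
      (by
        rw [← Nat.card_eq_fintype_card, hcardP]
        exact fun hd' => hr2 ((Nat.prime_dvd_prime_iff_eq hr Nat.prime_two).1 (hr.dvd_of_dvd_pow hd')))
      hone
    exact ⟨p1, p1.2, by rw [← hσ p1, show σ p1 = p1 from hp1]⟩
  choose pz hpzP hpzfix using hmeet
  have hne0 : ∀ (g : K) (x : V), x ≠ 0 → ρ g x ≠ 0 := fun g x hx h0 => hx (by
    have := congrArg (ρ g⁻¹) h0
    rwa [ρ.inv_self_apply, map_zero] at this)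
  let Ψ : {x : V // x ∈ (⊤ : Submodule (ZMod q) V) ∧ x ≠ 0} × Bool →
      ↥(P : Subgroup K) × {x : V // x ∈ W ∧ x ≠ 0} := fun r =>
    if r.2 then
      (⟨pz r.1 r.1.2.2 * z, mul_mem (hpzP _ _) z'.2⟩,
        ⟨-(ρ (pz r.1 r.1.2.2) r.1), W.neg_mem (mem_fixSub.2 (hpzfix _ _)),
          neg_ne_zero.2 (hne0 _ _ r.1.2.2)⟩)
    else
      (⟨pz r.1 r.1.2.2, hpzP _ _⟩,
        ⟨ρ (pz r.1 r.1.2.2) r.1, mem_fixSub.2 (hpzfix _ _), hne0 _ _ r.1.2.2⟩)
  have hrec : ∀ r, ρ ((Ψ r).1 : K)⁻¹ ((Ψ r).2 : V) = r.1 := by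
    rintro ⟨⟨x, -, hx⟩, _ | _⟩
    · exact ρ.inv_self_apply _ x
    · show ρ (pz x hx * z)⁻¹ (-(ρ (pz x hx) x)) = x
      rw [mul_inv_rev, map_mul, Module.End.mul_apply, map_neg, ρ.inv_self_apply,
        show -x = ρ z x from (hzneg x).symm, ρ.inv_self_apply]
  have hΨ : Function.Injective Ψ := by
    intro r r' heq
    have h1 : r.1 = r'.1 := Subtype.ext (by rw [← hrec r, ← hrec r', heq])
    obtain ⟨x, b⟩ := r
    obtain ⟨x', b'⟩ := r'
    obtain rfl : x = x' := h1
    have h2 : ((Ψ (x, b)).1 : K) = ((Ψ (x, b')).1 : K) := by rw [heq]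
    have hz1 : pz x x.2.2 * z ≠ pz x x.2.2 := fun h' => by
      rw [mul_eq_left.1 h', orderOf_one] at hzo
      omega
    cases b <;> cases b'
    · rfl
    · exact absurd h2.symm hz1
    · exact absurd h2 hz1
    · rfl
  have hcount := Nat.card_le_card_of_injective Ψ hΨ
  rw [Nat.card_prod, Nat.card_prod, card_ne_zero, card_ne_zero, hcardP,
    Nat.card_eq_fintype_card (α := Bool), Fintype.card_bool,
    Nat.card_congr (Submodule.topEquiv (R := ZMod q) (M := V)).toEquiv,
    Module.natCard_eq_pow_finrank (K := ZMod q) (V := V),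
    Module.natCard_eq_pow_finrank (K := ZMod q) (V := W), Nat.card_zmod, ← ha, ← hd,
    pow_succ] at hcount
  have hcount' : q ^ d - 1 ≤ 2 ^ m' * (q ^ a - 1) := by
    rw [mul_assoc, mul_comm 2, ← mul_assoc] at hcount
    omega
  -- the cyclic subgroup
  have hupow : ∀ n : ℕ, ∀ W0 : Submodule (ZMod q) V, (∀ x ∈ W0, ρ u x ∈ W0) →
      ∀ x ∈ W0, ρ (u ^ n) x ∈ W0 := by
    intro n W0 hW0
    induction n with
    | zero => simp
    | succ n ih =>
      intro x hx
      rw [pow_succ', map_mul, Module.End.mul_apply]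
      exact hW0 _ (ih x hx)
  have hzpow : ∀ g ∈ Subgroup.zpowers u, ∀ W0 : Submodule (ZMod q) V,
      (∀ x ∈ W0, ρ u x ∈ W0) → ∀ x ∈ W0, ρ g x ∈ W0 := by
    intro g hg W0 hW0 x hx
    obtain ⟨n, rfl⟩ := mem_powers_iff_mem_zpowers.2 hg
    exact hupow n W0 hW0 x hx
  by_cases hirrU : ∀ W0 : Submodule (ZMod q) V, (∀ x ∈ W0, ρ u x ∈ W0) → W0 = ⊥ ∨ W0 = ⊤
  · let φ : V ≃ₗ[ZMod q] V :=
      { ρ w with
        invFun := ρ w⁻¹
        left_inv := ρ.inv_self_apply w
        right_inv := ρ.self_inv_apply w }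
    have hone : 1 ≤ 2 ^ m' := Nat.one_le_two_pow
    have hpowj : ρ u ^ (2 ^ m' - 1 + 1) = 1 := by
      rw [Nat.sub_add_cancel hone, ← map_pow, ← huo, pow_orderOf_eq_one, map_one]
    have hinvu : u ^ (2 ^ m' - 1) = u⁻¹ := by
      rw [eq_inv_iff_mul_eq_one, ← pow_succ, Nat.sub_add_cancel hone, ← huo, pow_orderOf_eq_one]
    obtain ⟨s, hs, hdvd⟩ := orderOf_dvd_pow_add_one hirrU φ hpowj
      (by
        intro heq
        rw [← map_pow, hinvu] at heq
        have h2 : u ^ 2 = 1 := by
          rw [pow_two]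
          nth_rewrite 1 [← hinj heq]
          exact inv_mul_cancel u
        have h3 := orderOf_dvd_of_pow_eq_one h2
        rw [huo] at h3
        have h4 := Nat.le_of_dvd two_pos h3
        have h5 : 2 ^ 2 ≤ 2 ^ m' := Nat.pow_le_pow_right two_pos hm'2
        omega)
      (fun v => by
        show ρ w (ρ u (ρ w⁻¹ v)) = (ρ u ^ (2 ^ m' - 1)) v
        rw [← map_pow, hinvu, ← hwuK, map_mul, map_mul]
        rfl)
    rw [orderOf_injective ρ hinj, huo] at hdvd
    rw [← hd] at hs
    have hA : 2 ^ m' ≤ q ^ s + 1 := Nat.le_of_dvd (Nat.succ_pos _) hdvd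
    have hs0 : s ≠ 0 := fun h0 => by
      have : 0 < d := Module.finrank_pos
      omega
    have has : a ≤ s := by omega
    have hqs : q ^ d - 1 = (q ^ s + 1) * (q ^ s - 1) := by
      rw [hs, mul_comm 2 s, pow_mul, ← Nat.sq_sub_sq, one_pow]
    have hqas : q ^ a - 1 ≤ q ^ s - 1 :=
      Nat.sub_le_sub_right (Nat.pow_le_pow_right hq.pos has) 1
    have hq3 : 3 ≤ q := lt_of_le_of_ne hq.two_le (Ne.symm hq2)
    have hqs1 : 3 ≤ q ^ s := hq3.trans (Nat.le_self_pow hs0 q)
    have hAeq : 2 ^ m' = q ^ s + 1 := by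
      refine le_antisymm hA (Nat.le_of_mul_le_mul_right ?_ (show 0 < q ^ s - 1 by omega))
      rw [← hqs]
      exact hcount'.trans (Nat.mul_le_mul_left _ hqas)
    have hs1 : s = 1 :=
      eq_one_of_pow_add_one_eq_two_pow (hq.odd_of_ne_two hq2) hq3 hs0 hAeq.symm
    have ha1 : a ≠ 0 := fun h0 => by
      rw [h0, pow_zero, Nat.sub_self, mul_zero] at hcount'
      have : q ≤ q ^ d := Nat.le_self_pow (by omega) q
      omega
    -- `h` is unipotent
    obtain ⟨y0, hy0, hy0ne⟩ : ∃ y0, y0 ∈ W ∧ y0 ≠ 0 := W.exists_mem_ne_zero_of_ne_bot fun hb =>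
      ha1 (by rw [ha, hb, finrank_bot])
    rw [hW, mem_fixSub] at hy0
    obtain ⟨w0, -, hw0⟩ : ∃ w0, w0 ∈ (⊤ : Submodule (ZMod q) V) ∧
        w0 ∉ Submodule.span (ZMod q) {y0} := by
      refine SetLike.exists_of_lt (lt_top_iff_ne_top.2 fun ht => ?_)
      have h1 := congrArg (fun S : Submodule (ZMod q) V => Module.finrank (ZMod q) S) ht
      simp only [finrank_top, finrank_span_singleton hy0ne] at h1
      omega
    have hli : LinearIndependent (ZMod q) ![y0, w0] := by
      rw [LinearIndependent.pair_iff]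
      intro c1 c2 hc
      have hc2 : c2 = 0 := by
        by_contra hc2
        refine hw0 (Submodule.mem_span_singleton.2 ⟨-(c2⁻¹ * c1), ?_⟩)
        have : c2⁻¹ • (c1 • y0 + c2 • w0) = 0 := by rw [hc, smul_zero]
        rw [smul_add, smul_smul, smul_smul, inv_mul_cancel₀ hc2, one_smul] at this
        rw [neg_smul]
        exact (eq_neg_of_add_eq_zero_right this).symm
      subst hc2
      rw [zero_smul, add_zero, smul_eq_zero] at hc
      exact ⟨hc.resolve_right hy0ne, rfl⟩
    let b := basisOfLinearIndependentOfCardEqFinrank hli (by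
      rw [Fintype.card_fin, ← hd]; omega)
    have hb0 : b 0 = y0 := by simp [b]
    have hb1 : b 1 = w0 := by simp [b]
    have hdet : LinearMap.det (ρ h) = 1 :=
      map_eq_one_of_commute hperf (LinearMap.det.comp ρ) (fun _ _ => mul_comm _ _) h
    rw [← LinearMap.det_toMatrix b, Matrix.det_fin_two] at hdet
    simp only [LinearMap.toMatrix_apply] at hdet
    rw [show ρ h (b 0) = b 0 by rw [hb0, hy0], Module.Basis.repr_self,
      Finsupp.single_eq_same, Finsupp.single_eq_of_ne (by decide), one_mul, mul_zero,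
      sub_zero] at hdet
    set c0 := b.repr (ρ h (b 1)) 0 with hc0
    have hhw : ρ h (b 1) = c0 • b 0 + b 1 := by
      conv_lhs => rw [← b.sum_repr (ρ h (b 1))]
      rw [Fin.sum_univ_two, hdet, one_smul]
    have hit : ∀ n : ℕ, ρ (h ^ n) (b 1) = ((n : ZMod q) * c0) • b 0 + b 1 := by
      intro n
      induction n with
      | zero => simp
      | succ n ih =>
        rw [pow_succ', map_mul, Module.End.mul_apply, ih, map_add, map_smul, hhw, hb0, hy0,
          Nat.cast_succ, add_mul, one_mul, add_smul, add_assoc]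
    have hhq : ρ (h ^ q) = ρ 1 := by
      refine b.ext fun i => ?_
      fin_cases i
      · show ρ (h ^ q) (b 0) = ρ 1 (b 0)
        rw [map_one, Module.End.one_apply, hb0]
        exact apply_eq_of_mem_zpowers (pow_mem (Subgroup.mem_zpowers h) q) hy0
      · show ρ (h ^ q) (b 1) = ρ 1 (b 1)
        rw [hit, ZMod.natCast_self, zero_mul, zero_smul, zero_add, map_one ρ, Module.End.one_apply]
    have hh1 : h = 1 := orderOf_eq_one_iff.1 (Nat.eq_one_of_dvd_coprimes hcop
      (orderOf_dvd_natCard h) (orderOf_dvd_of_pow_eq_one (hinj hhq)))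
    exact hyh (by rw [hh1, mul_one, one_mul])
  · push Not at hirrU
    obtain ⟨W1, hW1inv, hW1bot, hW1top⟩ := hirrU
    have : Finite (Submodule (ZMod q) V) :=
      Finite.of_injective (fun W0 : Submodule (ZMod q) V => (W0 : Set V)) SetLike.coe_injective
    obtain ⟨W0, hW0le, ⟨hW0ne, hW0inv⟩, hW0min⟩ :=
      Finite.exists_le_minimal (p := fun W0 : Submodule (ZMod q) V =>
        W0 ≠ ⊥ ∧ ∀ x ∈ W0, ρ u x ∈ W0) (a := W1) ⟨hW1bot, hW1inv⟩
    have hW0top : W0 ≠ ⊤ := fun h0 => hW1top (top_le_iff.1 (h0 ▸ hW0le))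
    have hmin : ∀ W' ≤ W0, (∀ x ∈ W', ρ u x ∈ W') → W' = ⊥ ∨ W' = W0 := by
      intro W' hle hinv'
      by_cases hb : W' = ⊥
      · exact Or.inl hb
      · exact Or.inr (le_antisymm hle (hW0min ⟨hb, hinv'⟩ hle))
    -- `w` moves `W0` to a complement
    set W0' := W0.map (ρ w) with hW0'
    have huw : ∀ x, ρ u (ρ w x) = ρ w (ρ u⁻¹ x) := by
      intro x
      rw [← Module.End.mul_apply, ← Module.End.mul_apply, ← map_mul, ← map_mul]
      congr 2
      calc u * w = (u⁻¹)⁻¹ * w := by rw [inv_inv]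
        _ = (w * u * w⁻¹)⁻¹ * w := by rw [hwuK]
        _ = w * u⁻¹ := by group
    have hW0'inv : ∀ x ∈ W0', ρ u x ∈ W0' := by
      rintro _ ⟨x, hx, rfl⟩
      rw [huw]
      exact Submodule.mem_map_of_mem (hzpow _ (inv_mem (Subgroup.mem_zpowers u)) W0 hW0inv x hx)
    have hwinv : ∀ x ∈ W0', ρ w x ∈ W0 := by
      rintro _ ⟨x, hx, rfl⟩
      rw [← Module.End.mul_apply, ← map_mul, ← pow_two]
      refine hzpow _ ?_ W0 hW0inv x hx
      obtain ⟨n, hn⟩ := hw2
      exact ⟨n, by simpa [hu, hw] using congrArg Subtype.val hn⟩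
    have hPinv : ∀ S : Submodule (ZMod q) V, (∀ x ∈ S, ρ u x ∈ S) → (∀ x ∈ S, ρ w x ∈ S) →
        ∀ g ∈ (P : Subgroup K), ∀ x ∈ S, ρ g x ∈ S := by
      intro S hSu hSw g hg x hx
      by_cases hgM : (⟨g, hg⟩ : P) ∈ Subgroup.zpowers u'
      · obtain ⟨n, hn⟩ := hgM
        exact hzpow g ⟨n, by simpa [hu] using congrArg Subtype.val hn⟩ S hSu x hx
      · have h1 : w'⁻¹ * ⟨g, hg⟩ ∈ Subgroup.zpowers u' := by
          rw [Subgroup.mul_mem_iff_of_index_two hMi, inv_mem_iff]
          exact iff_of_false hw' hgM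
        obtain ⟨n, hn⟩ := h1
        have h2 := hzpow (w⁻¹ * g) ⟨n, by simpa [hu, hw] using congrArg Subtype.val hn⟩ S hSu x hx
        have h3 := hSw _ h2
        rwa [← Module.End.mul_apply, ← map_mul, mul_inv_cancel_left] at h3
    have hinvw : Function.Injective (ρ w) :=
      Function.LeftInverse.injective (g := ρ w⁻¹) (ρ.inv_self_apply w)
    have hf' : Module.finrank (ZMod q) W0' = Module.finrank (ZMod q) W0 :=
      (Submodule.equivMapOfInjective (ρ w) hinvw W0).finrank_eq.symm
    have hinf : W0 ⊓ W0' = ⊥ := by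
      refine (hmin (W0 ⊓ W0') inf_le_left fun x hx =>
        ⟨hW0inv x hx.1, hW0'inv x hx.2⟩).resolve_right fun heq => ?_
      have hEq : W0 = W0' :=
        Submodule.eq_of_le_of_finrank_eq (inf_eq_left.1 heq) hf'.symm
      refine hW0top ((hirr W0 (hPinv W0 hW0inv fun x hx => hwinv x (hEq ▸ hx))).resolve_left hW0ne)
    have hsup : W0 ⊔ W0' = ⊤ := by
      refine (hirr (W0 ⊔ W0') (hPinv _ ?_ ?_)).resolve_left fun hb =>
        hW0ne (eq_bot_iff.2 (hb ▸ le_sup_left))
      · intro x hx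
        obtain ⟨x1, hx1, x2, hx2, rfl⟩ := Submodule.mem_sup.1 hx
        rw [map_add]
        exact Submodule.add_mem_sup (hW0inv _ hx1) (hW0'inv _ hx2)
      · intro x hx
        obtain ⟨x1, hx1, x2, hx2, rfl⟩ := Submodule.mem_sup.1 hx
        rw [map_add, add_comm]
        exact Submodule.add_mem_sup (hwinv _ hx2) (Submodule.mem_map_of_mem hx1)
    set f := Module.finrank (ZMod q) W0 with hf
    have hdf : d = 2 * f := by
      have h1 := Submodule.finrank_sup_add_finrank_inf_eq W0 W0'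
      rw [hsup, hinf, finrank_top, finrank_bot, hf', ← hd, ← hf] at h1
      omega
    let T : Module.End (ZMod q) W0 := (ρ u).restrict hW0inv
    have hirrT : ∀ S : Submodule (ZMod q) W0, (∀ x ∈ S, T x ∈ S) → S = ⊥ ∨ S = ⊤ := by
      intro S hS
      rcases hmin (S.map W0.subtype) (Submodule.map_subtype_le _ _) (by
        rintro _ ⟨x, hx, rfl⟩
        exact ⟨T x, hS x hx, rfl⟩) with h1 | h1
      · left
        exact Submodule.map_injective_of_injective W0.injective_subtype
          (h1.trans (Submodule.map_bot _).symm)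
      · right
        exact Submodule.map_injective_of_injective W0.injective_subtype
          (h1.trans (Submodule.map_subtype_top _).symm)
    have : Nontrivial W0 := Submodule.nontrivial_iff_ne_bot.2 hW0ne
    have hTn : ∀ (n : ℕ) (x : W0), ((T ^ n) x : V) = ρ (u ^ n) x := by
      intro n x
      induction n with
      | zero => simp
      | succ n ih =>
        rw [pow_succ', Module.End.mul_apply, pow_succ', map_mul ρ u, Module.End.mul_apply, ← ih]
        rfl
    have hTo : orderOf T = 2 ^ m' := by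
      rw [← huo]
      refine orderOf_eq_orderOf_iff.2 fun n => ?_
      constructor
      · intro h1
        by_contra hn
        obtain ⟨x, hx⟩ := exists_ne (0 : W0)
        refine hx (Subtype.ext (hsemi (u ^ n) (pow_mem u'.2 n) hn _ ?_))
        rw [← hTn, h1, Module.End.one_apply]
      · intro h1
        exact LinearMap.ext fun x => Subtype.ext (by
          rw [hTn, h1, map_one, Module.End.one_apply, Module.End.one_apply])
    have hT0 : T ≠ 0 := fun h0 => by
      obtain ⟨x, hx⟩ := exists_ne (0 : W0)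
      refine hne0 u (x : V) (fun h1 => hx (Subtype.ext h1)) ?_
      exact congrArg Subtype.val (LinearMap.congr_fun h0 x)
    have hdvd := orderOf_dvd_pow_sub_one hirrT hT0
    rw [hTo, ← hf] at hdvd
    have hqf : 2 ≤ q ^ f :=
      hq.two_le.trans (Nat.le_self_pow (Module.finrank_pos (R := ZMod q) (M := W0)).ne' q)
    have hA : 2 ^ m' ≤ q ^ f - 1 := Nat.le_of_dvd (by omega) hdvd
    have haf : q ^ a - 1 ≤ q ^ f - 1 :=
      Nat.sub_le_sub_right (Nat.pow_le_pow_right hq.pos (by omega)) 1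
    have hlt : (q ^ f - 1) * (q ^ f - 1) < q ^ d - 1 := by
      rw [hdf, mul_comm 2 f, pow_mul]
      obtain ⟨t, ht⟩ : ∃ t, q ^ f = t + 2 := ⟨q ^ f - 2, by omega⟩
      rw [ht]
      have : (t + 2) ^ 2 = (t + 1) * (t + 1) + (2 * t + 3) := by ring
      rw [show t + 2 - 1 = t + 1 by omega]
      omega
    exact absurd (hcount'.trans ((Nat.mul_le_mul hA haf))) (not_le.2 hlt)

end Cfsg.Agent.LinRep.PPowerOrbits
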