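import Cfsg.Agent.Lib.LinRep.PPowerOrbitsBlocks
import Cfsg.Agent.Lib.LinRep.PPowerOrbitsCyclic
import Cfsg.Agent.Lib.LinRep.PPowerOrbitsQuaternion
import Cfsg.Agent.Lib.Solvable.Basic

/-!
# Coprime linear groups with all orbit sizes powers of one prime are solvable

* `apply_eq_self_of_perfect`: a perfect `q'`-group acting on a finite `𝔽_q`-space with all orbit
  sizes powers of a prime `p` acts trivially.
* `isSolvable_of_pPow`: a `q'`-group acting faithfully with all orbit sizes powers of `p` is
  solvable (no use of the classification or of the odd order theorem).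
-/

set_option autoImplicit false

namespace Cfsg.Agent.LinRep.PPowerOrbits

open Cfsg.Agent.OrbitSpan (stab mem_stab)

universe u v

variable {q p : ℕ} [Fact q.Prime] [Fact p.Prime]

/-- Every orbit of a group with `p`-power orbit sizes is an orbit of a Sylow `p`-subgroup. -/
theorem exists_mem_sylow_apply_eq {k K V : Type*} [Field k] [Group K] [Finite K] [AddCommGroup V]
    [Module k V] (ρ : Representation k K V) (h : PPow ρ p) (P : Sylow p K) (g : K) (v : V) :
    ∃ x ∈ (P : Subgroup K), ρ x v = ρ g v := by
  obtain ⟨a, ha⟩ := h v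
  have hcop : (P : Subgroup K).index.Coprime (stab ρ v).index := by
    rw [ha]
    exact (((Fact.out : p.Prime).coprime_iff_not_dvd.2 P.not_dvd_index).pow_left a).symm
  obtain ⟨x, hx, y, hy, rfl⟩ := Solvable.exists_mul_of_coprime_index hcop g
  exact ⟨x, hx, by rw [map_mul, Module.End.mul_apply, mem_stab.1 hy]⟩

/-- The irreducible faithful case. -/
theorem eq_one_of_irreducible {K V : Type*} [Group K] [Finite K] [AddCommGroup V]
    [Module (ZMod q) V] [Finite V] (hperf : commutator K = ⊤) (hcop : (Nat.card K).Coprime q)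
    (ρ : Representation (ZMod q) K V) (hinj : Function.Injective ρ) (h : PPow ρ p)
    (hirr : ∀ W : Submodule (ZMod q) V, (∀ g, ∀ w ∈ W, ρ g w ∈ W) → W = ⊥ ∨ W = ⊤) (g : K) :
    g = 1 := by
  have hp := Fact.out (p := p.Prime)
  by_cases hpK : p ∣ Nat.card K
  · rcases subsingleton_or_nontrivial V with hV | hV
    · exact hinj (LinearMap.ext fun v => Subsingleton.elim _ _)
    exfalso
    obtain ⟨P⟩ := (inferInstance : Nonempty (Sylow p K))
    have hne : (P : Subgroup K) ≠ ⊥ := P.ne_bot_of_dvd_card hpK
    have hinv := exists_mem_sylow_apply_eq ρ h P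
    have hirrP : ∀ W : Submodule (ZMod q) V,
        (∀ x ∈ (P : Subgroup K), ∀ w ∈ W, ρ x w ∈ W) → W = ⊥ ∨ W = ⊤ := fun W hW =>
      hirr W fun g w hw => by
        obtain ⟨x, hx, hxv⟩ := hinv g w
        exact hxv ▸ hW x hx w hw
    rcases exists_elementary_or_cyclic (p := p) P.2 with ⟨E, hEn, hE, hEc⟩ | hc | ⟨h2, M, hMc, hMi⟩
    · exact false_of_elementary (ne_of_dvd_card_of_coprime hpK hcop) hperf ρ hinj P P.2 hinv hirrP
        E hE hEc
    · exact false_of_cyclic hperf hcop ρ hinj P hne hc hinv hirrP
    · subst h2
      by_cases hcyc : IsCyclic P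
      · exact false_of_cyclic hperf hcop ρ hinj P hne hcyc hinv hirrP
      · exact false_of_index_two hperf hcop ρ hinj P hne hcyc M hMc hMi hinv hirrP
  · refine hinj (LinearMap.ext fun v => ?_)
    obtain ⟨a, ha⟩ := h v
    rcases a with _ | a
    · rw [pow_zero, Subgroup.index_eq_one] at ha
      rw [map_one, Module.End.one_apply]
      exact mem_stab.1 (ha ▸ Subgroup.mem_top g)
    · exact absurd ((dvd_pow_self p a.succ_ne_zero).trans (ha ▸ Subgroup.index_dvd_card _)) hpK

theorem apply_eq_self_aux {K : Type u} [Group K] [Finite K] (hperf : commutator K = ⊤)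
    (hcop : (Nat.card K).Coprime q) : ∀ (n : ℕ) (V : Type v) [AddCommGroup V]
    [Module (ZMod q) V] [Finite V], Nat.card V ≤ n → ∀ ρ : Representation (ZMod q) K V,
    PPow ρ p → ∀ g v, ρ g v = v := by
  intro n
  induction n with
  | zero =>
    intro V _ _ _ hn
    exact absurd hn (Nat.not_le.2 Nat.card_pos)
  | succ n ih =>
    intro V _ _ _ hn ρ h
    by_cases hirr : ∀ W : Submodule (ZMod q) V, (∀ g, ∀ w ∈ W, ρ g w ∈ W) → W = ⊥ ∨ W = ⊤
    · -- pass to the image
      intro g v
      set N : Subgroup K := MonoidHom.ker ρ with hN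
      let σ : Representation (ZMod q) (K ⧸ N) V := QuotientGroup.lift N ρ le_rfl
      have hσmk : ∀ x : K, σ (x : K ⧸ N) = ρ x := fun x => rfl
      have hσinj : Function.Injective σ := by
        intro x y hxy
        induction x using QuotientGroup.induction_on with
        | _ x =>
          induction y using QuotientGroup.induction_on with
          | _ y =>
            rw [hσmk, hσmk] at hxy
            refine QuotientGroup.eq.2 ?_
            rw [hN, MonoidHom.mem_ker, map_mul, ← hxy, ← map_mul, inv_mul_cancel, map_one]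
      have hσperf : commutator (K ⧸ N) = ⊤ := by
        rw [commutator_def, ← Subgroup.map_top_of_surjective (QuotientGroup.mk' N)
          (QuotientGroup.mk'_surjective N), ← Subgroup.map_commutator, ← commutator_def, hperf]
      have hσcop : (Nat.card (K ⧸ N)).Coprime q :=
        hcop.coprime_dvd_left (Subgroup.card_quotient_dvd_card N)
      have hσP : PPow σ p := by
        intro w
        obtain ⟨a, ha⟩ := h w
        refine ⟨a, ?_⟩
        rw [← ha, show stab ρ w = (stab σ w).comap (QuotientGroup.mk' N) from
          Subgroup.ext fun x => Iff.rfl,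
          Subgroup.index_comap_of_surjective _ (QuotientGroup.mk'_surjective N)]
      have h1 := eq_one_of_irreducible hσperf hσcop σ hσinj hσP
        (fun W hW => hirr W fun x w hw => hW (x : K ⧸ N) w hw) (g : K ⧸ N)
      rw [← hσmk, h1, map_one, Module.End.one_apply]
    · push Not at hirr
      obtain ⟨W, hW, hWbot, hWtop⟩ := hirr
      have hlt : Nat.card W < Nat.card V := by
        have h1 : (W : Set V) ⊂ Set.univ :=
          Set.ssubset_univ_iff.2 fun he => hWtop (SetLike.coe_injective (by simpa using he))
        have h2 := Set.ncard_lt_ncard h1 Set.finite_univ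
        rwa [Set.ncard_univ, ← Nat.card_coe_set_eq] at h2
      have : Finite (V ⧸ W) := Finite.of_surjective _ (Submodule.Quotient.mk_surjective W)
      have hlt' : Nat.card (V ⧸ W) < Nat.card V := by
        have hW1 : 1 < Nat.card W := by
          rw [Finite.one_lt_card_iff_nontrivial]
          exact Submodule.nontrivial_iff_ne_bot.2 hWbot
        rw [Submodule.card_eq_card_quotient_mul_card W]
        exact lt_mul_of_one_lt_left (Nat.card_pos (α := V ⧸ W)) hW1
      let ρW : Representation (ZMod q) K W :=
        { toFun := fun g => (ρ g).restrict (hW g)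
          map_one' := by ext x; simp
          map_mul' := fun g g' => by ext x; simp }
      let ρQ : Representation (ZMod q) K (V ⧸ W) :=
        { toFun := fun g => W.mapQ W (ρ g) (fun w hw => hW g w hw)
          map_one' := by ext x; simp
          map_mul' := fun g g' => by ext x; simp }
      have hPW : PPow ρW p := by
        intro w
        obtain ⟨a, ha⟩ := h (w : V)
        refine ⟨a, ?_⟩
        rw [← ha]
        congr 1
        ext x
        rw [mem_stab, mem_stab]
        exact ⟨fun hx => congrArg Subtype.val hx, fun hx => Subtype.ext hx⟩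
      have hPQ : PPow ρQ p := by
        intro w
        obtain ⟨v, rfl⟩ := Submodule.Quotient.mk_surjective W w
        obtain ⟨a, ha⟩ := h v
        have hd : (stab ρQ (Submodule.Quotient.mk v)).index ∣ p ^ a := ha ▸
          Subgroup.index_dvd_of_le fun x hx => by
            rw [mem_stab] at hx ⊢
            show Submodule.Quotient.mk (ρ x v) = _
            rw [hx]
        obtain ⟨b, -, hb⟩ := (Nat.dvd_prime_pow (Fact.out : p.Prime)).1 hd
        exact ⟨b, hb⟩
      have hfW := ih W (by omega) ρW hPW
      have hfQ := ih (V ⧸ W) (by omega) ρQ hPQ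
      have hdiff : ∀ g v, ρ g v - v ∈ W := fun g v =>
        (Submodule.Quotient.eq W).1 (hfQ g (Submodule.Quotient.mk v))
      have hfix : ∀ g, ∀ w ∈ W, ρ g w = w := fun g w hw => congrArg Subtype.val (hfW g ⟨w, hw⟩)
      have hcomm : ∀ a b, ρ a * ρ b = ρ b * ρ a := by
        intro a b
        refine LinearMap.ext fun v => ?_
        rw [Module.End.mul_apply, Module.End.mul_apply]
        have h1 : ∀ x y, ρ x (ρ y v) = ρ x v + (ρ y v - v) := fun x y => by
          rw [← hfix x _ (hdiff y v), ← map_add, add_sub_cancel]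
        rw [h1, h1]
        abel
      intro g v
      rw [map_eq_one_of_commute hperf ρ hcomm g, Module.End.one_apply]

/-- A perfect `q'`-group acting on a finite `𝔽_q`-space with all orbit sizes powers of a prime
acts trivially. -/
theorem apply_eq_self_of_perfect {K : Type u} [Group K] [Finite K] {V : Type v} [AddCommGroup V]
    [Module (ZMod q) V] [Finite V] (hperf : commutator K = ⊤) (hcop : (Nat.card K).Coprime q)
    (ρ : Representation (ZMod q) K V) (h : PPow ρ p) (g : K) (v : V) : ρ g v = v :=
  apply_eq_self_aux hperf hcop (Nat.card V) V le_rfl ρ h g v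

/-- A `q'`-group acting faithfully on a finite `𝔽_q`-space with all orbit sizes powers of a prime
is solvable. -/
theorem isSolvable_of_pPow {K : Type u} [Group K] [Finite K] {V : Type v} [AddCommGroup V]
    [Module (ZMod q) V] [Finite V] (hcop : (Nat.card K).Coprime q)
    (ρ : Representation (ZMod q) K V) (hinj : Function.Injective ρ) (h : PPow ρ p) :
    Group.IsSolvable K := by
  obtain ⟨n, hn⟩ : ∃ n, derivedSeries K (n + 1) = derivedSeries K n := by
    classical
    have hex : ∃ c, ∃ n, Nat.card (derivedSeries K n) = c := ⟨_, 0, rfl⟩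
    obtain ⟨n, hn⟩ := Nat.find_spec hex
    refine ⟨n, Subgroup.eq_of_le_of_card_ge (derivedSeries_antitone K (Nat.le_succ n)) ?_⟩
    rw [hn]
    exact Nat.find_le ⟨n + 1, rfl⟩
  set N := derivedSeries K n with hN
  have hperf : commutator N = ⊤ := by
    apply Subgroup.map_injective N.subtype_injective
    rw [Subgroup.map_subtype_commutator, ← MonoidHom.range_eq_map, Subgroup.range_subtype]
    rw [derivedSeries_succ] at hn
    exact hn
  have hNn : N.Normal := derivedSeries_normal K n
  have hP : PPow (ρ.comp N.subtype) p := by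
    intro v
    obtain ⟨a, ha⟩ := h v
    have hs : stab (ρ.comp N.subtype) v = (stab ρ v).subgroupOf N := Subgroup.ext fun x => Iff.rfl
    set S := stab ρ v with hS
    have h1 := Subgroup.relIndex_mul_index (inf_le_right : S ⊓ N ≤ N)
    have h2 := Subgroup.relIndex_mul_index (inf_le_left : S ⊓ N ≤ S)
    have h3 := Subgroup.relIndex_mul_index (le_sup_left : N ≤ N ⊔ S)
    rw [Subgroup.inf_relIndex_right] at h1
    rw [Subgroup.inf_relIndex_left] at h2
    rw [Subgroup.relIndex_sup_left] at h3
    have hdvd : S.relIndex N ∣ p ^ a := by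
      refine ⟨(N ⊔ S).index, ?_⟩
      rw [← ha]
      refine Nat.eq_of_mul_eq_mul_left (Nat.pos_of_ne_zero
        (left_ne_zero_of_mul (h3.trans_ne Subgroup.index_ne_zero_of_finite))) ?_
      rw [h2, ← h1, ← h3]
      ring
    obtain ⟨b, -, hb⟩ := (Nat.dvd_prime_pow (Fact.out : p.Prime)).1 hdvd
    exact ⟨b, by rw [hs]; exact hb⟩
  refine (Group.isSolvable_def K).2 ⟨n, eq_bot_iff.2 fun x hx => Subgroup.mem_bot.2 (hinj ?_)⟩
  rw [map_one]
  exact LinearMap.ext fun v => apply_eq_self_of_perfect hperf
    (hcop.coprime_dvd_left (Subgroup.card_subgroup_dvd_card N)) (ρ.comp N.subtype) hP ⟨x, hx⟩ v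

end Cfsg.Agent.LinRep.PPowerOrbits
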