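import Mathlib
import Cfsg.Agent.Lib.OrbitSpan.Basic
import Cfsg.Agent.Lib.PGroup.Basic
import Cfsg.Agent.Lib.PGroup.ElementaryAbelian
import Cfsg.Agent.Lib.PGroup.SCN
import Cfsg.Agent.Lib.PGroup.UniqueOrderP
import Cfsg.Agent.S3761

/-!
# Linear groups all whose orbits are `P`-orbits: common tools

`P ≤ K` is a `p`-subgroup such that every `K`-orbit of the faithful representation `ρ` is a
`P`-orbit. Used by `PPowerOrbitsBlocks`, `PPowerOrbitsCyclic`, `PPowerOrbitsQuaternion`.

* perfect groups have only trivial maps to solvable groups and commutative monoids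
* fixed spaces, semiregular subgroups
* the field `𝔽_q[T]` of an irreducible endomorphism `T`
* `exists_elementary_or_cyclic`: a `p`-group has a normal elementary abelian subgroup of order
  `p²`, or is cyclic, or `p = 2` and it has a cyclic subgroup of index 2.
-/

set_option autoImplicit false

namespace Cfsg.Agent.LinRep.PPowerOrbits

open Cfsg.Agent.OrbitSpan (stab mem_stab)

/-- All orbit sizes are powers of `p`. -/
def PPow {k K V : Type*} [Field k] [Group K] [AddCommGroup V] [Module k V]
    (ρ : Representation k K V) (p : ℕ) : Prop :=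
  ∀ v : V, ∃ a : ℕ, (stab ρ v).index = p ^ a

/-- The vectors fixed by `g`. -/
def fixSub {k K V : Type*} [Field k] [Group K] [AddCommGroup V] [Module k V]
    (ρ : Representation k K V) (g : K) : Submodule k V :=
  LinearMap.ker (ρ g - 1)

theorem mem_fixSub {k K V : Type*} [Field k] [Group K] [AddCommGroup V] [Module k V]
    {ρ : Representation k K V} {g : K} {v : V} : v ∈ fixSub ρ g ↔ ρ g v = v := by
  rw [fixSub, LinearMap.mem_ker, LinearMap.sub_apply, Module.End.one_apply, sub_eq_zero]

section Perfect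

variable {K : Type*} [Group K] (hperf : commutator K = ⊤)

include hperf

open scoped commutatorElement in
theorem map_eq_one_of_isSolvable {H : Type*} [Group H] [Group.IsSolvable H] (f : K →* H) (g : K) :
    f g = 1 := by
  obtain ⟨n, hn⟩ := (Group.isSolvable_def H).1 inferInstance
  have h : ∀ m, f.range ≤ derivedSeries H m := by
    intro m
    induction m with
    | zero => simp
    | succ m ih =>
      rw [derivedSeries_succ, MonoidHom.range_eq_map, ← hperf, commutator_eq_closure,
        MonoidHom.map_closure, Subgroup.closure_le]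
      rintro _ ⟨_, ⟨a, b, rfl⟩, rfl⟩
      rw [SetLike.mem_coe, map_commutatorElement]
      exact Subgroup.commutator_mem_commutator (ih ⟨a, rfl⟩) (ih ⟨b, rfl⟩)
  exact Subgroup.mem_bot.1 (hn ▸ h n ⟨g, rfl⟩)

open scoped commutatorElement in
theorem map_eq_one_of_commute {M : Type*} [Monoid M] (f : K →* M)
    (hc : ∀ a b, f a * f b = f b * f a) (g : K) : f g = 1 := by
  have h : commutator K ≤ f.ker := by
    rw [commutator_eq_closure, Subgroup.closure_le]
    rintro _ ⟨a, b, rfl⟩
    rw [SetLike.mem_coe, MonoidHom.mem_ker,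
      show ⁅a, b⁆ = a * b * (b * a)⁻¹ by rw [commutatorElement_def]; group, map_mul,
      map_mul f a b, hc, ← map_mul f b a, ← map_mul, mul_inv_cancel, map_one]
  exact MonoidHom.mem_ker.1 (h (hperf ▸ Subgroup.mem_top g))

theorem not_hasNormalPComplement {p : ℕ} [Fact p.Prime] [Finite K] (hp : p ∣ Nat.card K) :
    ¬ Cfsg.HasNormalPComplement p K := by
  rintro ⟨P, N, hN, hcomp⟩
  have hq : IsPGroup p (K ⧸ N) := by
    obtain ⟨n, hn⟩ := P.2.exists_card_eq
    exact IsPGroup.of_card (n := n) (by rw [← Subgroup.index_eq_card, hcomp.symm.index_eq_card, hn])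
  have := hq.isNilpotent
  have hNtop : N = ⊤ := eq_top_iff.2 fun g _ =>
    (QuotientGroup.eq_one_iff g).1 (map_eq_one_of_isSolvable hperf (QuotientGroup.mk' N) g)
  have h1 := hcomp.symm.index_eq_card
  rw [hNtop, Subgroup.index_top] at h1
  exact P.ne_bot_of_dvd_card hp (Subgroup.card_eq_one.1 h1.symm)

end Perfect

section Rep

variable {k K V : Type*} [Field k] [Group K] [AddCommGroup V] [Module k V]
  {ρ : Representation k K V} {p : ℕ}

theorem apply_eq_of_mem_zpowers {x y : K} (hy : y ∈ Subgroup.zpowers x) {v : V}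
    (h : ρ x v = v) : ρ y v = v :=
  (Subgroup.zpowers_le (H := stab ρ v)).2 h hy

/-- If the only elements of order `p` of `P` lie in `⟨z⟩` and `z` is fixed-point-free, then `P`
is semiregular. -/
theorem eq_zero_of_fixed [Fact p.Prime] [Finite K] {P : Subgroup K} (hP : IsPGroup p P) {z : K}
    (hzp : orderOf z = p) (hz : ∀ v, ρ z v = v → v = 0)
    (huniq : ∀ x ∈ P, orderOf x = p → x ∈ Subgroup.zpowers z)
    {h : K} (hh : h ∈ P) (h1 : h ≠ 1) {v : V} (hv : ρ h v = v) : v = 0 := by
  obtain ⟨j, hj⟩ := IsPGroup.iff_orderOf.1 hP ⟨h, hh⟩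
  rw [Subgroup.orderOf_mk] at hj
  rcases j with _ | j
  · exact absurd (orderOf_eq_one_iff.1 (by simpa using hj)) h1
  set x := h ^ p ^ j with hx
  have hxo : orderOf x = p := by
    rw [hx, orderOf_pow_of_dvd (pow_ne_zero _ (Fact.out : p.Prime).ne_zero) (hj ▸ ⟨p, by ring⟩),
      hj, pow_succ, Nat.mul_div_cancel_left _ (pow_pos (Fact.out : p.Prime).pos _)]
  have hxz := huniq x (pow_mem hh _) hxo
  have hzx : Subgroup.zpowers x = Subgroup.zpowers z :=
    Subgroup.eq_of_le_of_card_ge (Subgroup.zpowers_le.2 hxz)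
      (by rw [Nat.card_zpowers, Nat.card_zpowers, hxo, hzp])
  refine hz v (apply_eq_of_mem_zpowers (hzx ▸ Subgroup.mem_zpowers z : z ∈ Subgroup.zpowers x) ?_)
  exact apply_eq_of_mem_zpowers (pow_mem (Subgroup.mem_zpowers h) _) hv

theorem inv_mul_eq_one_of_apply_eq {P : Subgroup K}
    (hsemi : ∀ h ∈ P, h ≠ 1 → ∀ v, ρ h v = v → v = 0) {a b : K} (ha : a ∈ P) (hb : b ∈ P)
    {v : V} (hv : v ≠ 0) (h : ρ a v = ρ b v) : a = b := by
  by_contra hne
  refine hv (hsemi (a⁻¹ * b) (mul_mem (inv_mem ha) hb) (fun h1 => hne ?_) v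
    (mem_stab.1 (OrbitSpan.apply_eq_iff.1 h)))
  exact inv_mul_eq_one.1 h1

theorem card_ne_zero (W : Submodule k V) [Finite V] :
    Nat.card {v : V // v ∈ W ∧ v ≠ 0} = Nat.card W - 1 := by
  have h : {v : V | v ∈ W ∧ v ≠ 0} = (W : Set V) \ {0} := by
    ext v; simp
  change Nat.card ({v : V | v ∈ W ∧ v ≠ 0} : Set V) = _
  rw [Nat.card_coe_set_eq, h, Set.ncard_sdiff_singleton_of_mem W.zero_mem, ← Nat.card_coe_set_eq]
  rfl

end Rep

section Irreducible

variable {k V : Type*} [Field k] [AddCommGroup V] [Module k V] [Finite V] [Nontrivial V]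
  {T : Module.End k V} (hirr : ∀ W : Submodule k V, (∀ w ∈ W, T w ∈ W) → W = ⊥ ∨ W = ⊤)

omit [Finite V] [Nontrivial V] in
theorem adjoin_apply_comm (a : Algebra.adjoin k {T}) (v : V) :
    (a : Module.End k V) (T v) = T ((a : Module.End k V) v) :=
  LinearMap.congr_fun (congrArg Subtype.val (IsMulCommutative.is_comm.comm a
    ⟨T, Algebra.subset_adjoin rfl⟩)) v

include hirr

omit [Finite V] [Nontrivial V] in
theorem adjoin_eq_zero_or_injective (a : Algebra.adjoin k {T}) :
    a = 0 ∨ Function.Injective (a : Module.End k V) := by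
  rcases hirr (LinearMap.ker (a : Module.End k V)) (fun w hw => by
    rw [LinearMap.mem_ker] at hw ⊢
    rw [adjoin_apply_comm, hw, map_zero]) with h | h
  · exact Or.inr (LinearMap.ker_eq_bot.1 h)
  · exact Or.inl (Subtype.ext (LinearMap.ker_eq_top.1 h))

omit [Finite V] in
theorem adjoin_isDomain : IsDomain (Algebra.adjoin k {T}) := by
  have : NoZeroDivisors (Algebra.adjoin k {T}) := ⟨fun {a b} h => by
    rcases adjoin_eq_zero_or_injective hirr a with ha | ha
    · exact Or.inl ha
    · refine Or.inr (Subtype.ext (LinearMap.ext fun v => ha ?_))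
      have := LinearMap.congr_fun (congrArg Subtype.val h) v
      simpa using this⟩
  exact NoZeroDivisors.to_isDomain _

omit [Nontrivial V] [Finite V] in
theorem adjoin_eval_bijective {v : V} (hv : v ≠ 0) :
    Function.Bijective fun a : Algebra.adjoin k {T} => (a : Module.End k V) v := by
  let ev : Algebra.adjoin k {T} →ₗ[k] V :=
    (LinearMap.applyₗ v).comp (Algebra.adjoin k {T}).val.toLinearMap
  show Function.Bijective ev
  refine ⟨(injective_iff_map_eq_zero ev).2 fun a ha => ?_, ?_⟩
  · rcases adjoin_eq_zero_or_injective hirr a with h | h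
    · exact h
    · exact absurd (h (ha.trans (map_zero (a : Module.End k V)).symm)) hv
  · rw [← LinearMap.range_eq_top]
    refine (hirr (LinearMap.range ev) ?_).resolve_left fun h => hv ?_
    · rintro _ ⟨a, rfl⟩
      exact ⟨⟨T, Algebra.subset_adjoin rfl⟩ * a, rfl⟩
    · exact (Submodule.mem_bot k).1 (h ▸ (⟨1, rfl⟩ : v ∈ LinearMap.range ev))

end Irreducible

/-- A `p`-group has a normal elementary abelian subgroup of order `p ^ 2`, or it is cyclic, or
`p = 2` and it has a cyclic subgroup of index `2`. -/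
theorem exists_elementary_or_cyclic {G : Type*} [Group G] [Finite G] {p : ℕ} [Fact p.Prime]
    (hG : IsPGroup p G) :
    (∃ E : Subgroup G, E.Normal ∧ Cfsg.IsElementaryAbelian p E ∧ Nat.card E = p ^ 2) ∨
      IsCyclic G ∨ (p = 2 ∧ ∃ M : Subgroup G, IsCyclic M ∧ M.index = 2) := by
  have hp := Fact.out (p := p.Prime)
  obtain ⟨A, hAn, hA, hmax⟩ := PGroup.exists_maximal_abelian_normal (G := G)
  have hself := PGroup.centralizer_eq_of_maximal_abelian_normal hG hA hmax
  by_cases hAc : IsCyclic A
  · by_cases hcomm : IsMulCommutative G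
    · refine Or.inr (Or.inl ?_)
      have htop : A = ⊤ := by
        rw [← hself, Subgroup.centralizer_eq_top_iff_subset]
        intro x _
        exact Subgroup.mem_center_iff.2 fun g => hcomm.is_comm.comm g x
      subst htop
      exact Subgroup.topEquiv.isCyclic.1 hAc
    · obtain ⟨n, hn⟩ := PGroup.card_eq_pow hG A
      rcases S3761.result hG hcomm A hAc n hn hself with ⟨h2, hcard, -⟩ | ⟨-, hel, hc, hchar⟩
      · refine Or.inr (Or.inr ⟨h2, A, hAc, ?_⟩)
        have h := Subgroup.card_mul_index A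
        rw [hcard, hn, h2, pow_succ] at h
        exact Nat.eq_of_mul_eq_mul_left (pow_pos two_pos _) h
      · have := hchar
        exact Or.inl ⟨_, inferInstance, hel, hc⟩
  · left
    have hne : A ≠ ⊥ := fun h => hAc (h ▸ inferInstance)
    have hΩn : (Cfsg.omegaOne p A).Normal := PGroup.omegaOne_normal A
    have hel := PGroup.isElementaryAbelian_omegaOne (p := p) hA
    obtain ⟨k, hk⟩ := PGroup.card_eq_pow hG (Cfsg.omegaOne p A)
    have hk2 : 2 ≤ k := by
      by_contra hlt
      refine hAc ?_
      refine PGroup.isCyclic_of_unique_of_isMulCommutative (hG.to_subgroup A) ?_ hA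
      intro H L hH hL
      apply Subgroup.map_injective A.subtype_injective
      have key : ∀ H : Subgroup A, Nat.card H = p → H.map A.subtype = Cfsg.omegaOne p A := by
        intro H hH
        refine Subgroup.eq_of_le_of_card_ge ?_ ?_
        · rintro _ ⟨x, hx, rfl⟩
          refine PGroup.mem_omegaOne_of_pow_eq_one x.2 ?_
          have h1 : (⟨x, hx⟩ : H) ^ p = 1 := hH ▸ pow_card_eq_one'
          simpa using congrArg (fun y : H => ((y : A) : G)) h1
        · rw [Subgroup.card_map_of_injective A.subtype_injective, hH, hk]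
          calc p ^ k ≤ p ^ 1 := Nat.pow_le_pow_right hp.pos (by omega)
            _ = p := pow_one p
      rw [key H hH, key L hL]
    obtain ⟨L, hL, -, hLΩ, hLc⟩ := PGroup.exists_normal_card_between hG ⊥ (Cfsg.omegaOne p A)
      bot_le 2 (by rw [Subgroup.card_bot]; exact Nat.one_le_pow _ _ hp.pos)
      (by rw [hk]; exact Nat.pow_le_pow_right hp.pos hk2)
    exact ⟨L, hL, PGroup.isElementaryAbelian_mono hel hLΩ, hLc⟩

end Cfsg.Agent.LinRep.PPowerOrbits
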