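import Cfsg.Agent.Lib.LinRep.PPowerOrbitsBasic

/-!
# `P`-orbits: the case of a normal elementary abelian subgroup of order `p²`

The space is the sum of the `p` fixed spaces of `a z^i`; `K` permutes them preserving adjacency
in a cycle of length `p`, so a perfect `K` fixes each of them, but `P` does not.
-/

set_option autoImplicit false

namespace Cfsg.Agent.LinRep.PPowerOrbits

open Cfsg.Agent.OrbitSpan (stab mem_stab)

variable {q p : ℕ} [Fact q.Prime] [Fact p.Prime] {K V : Type*} [Group K] [Finite K]
  [AddCommGroup V] [Module (ZMod q) V] [Finite V]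

omit [Finite K] [Finite V] in
theorem false_of_blocks (hpq : p ≠ q) (hperf : commutator K = ⊤)
    (ρ : Representation (ZMod q) K V) [Nontrivial V] (P : Subgroup K)
    (hinv : ∀ g v, ∃ h ∈ P, ρ h v = ρ g v)
    (a z g : K) (hg : g ∈ P) (hap : a ^ p = 1) (hzp : orderOf z = p)
    (haz : Commute a z) (hz : ∀ v, ρ z v = v → v = 0)
    (hshift : ∀ h ∈ P, Commute h z ∧ ∃ t : ℕ, h * a * h⁻¹ = a * z ^ t)
    (hga : g * a * g⁻¹ = a * z) : False := by
  classical
  have hp := Fact.out (p := p.Prime)
  have hzpow : z ^ p = 1 := hzp ▸ pow_orderOf_eq_one z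
  have hpne : (p : ZMod q) ≠ 0 := by
    rw [Ne, ZMod.natCast_eq_zero_iff]
    intro h
    exact hpq ((Nat.prime_dvd_prime_iff_eq Fact.out hp).1 h).symm
  let zz : ZMod p → K := fun i => z ^ i.val
  have hzadd : ∀ i j, zz (i + j) = zz i * zz j := fun i j => by
    simp only [zz]
    rw [ZMod.val_add, ← pow_add, ← pow_eq_pow_mod _ hzpow]
  have hzcast : ∀ n : ℕ, zz (n : ZMod p) = z ^ n := fun n => by
    simp only [zz]
    rw [ZMod.val_natCast, ← pow_eq_pow_mod _ hzpow]
  let b : ZMod p → K := fun i => a * zz i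
  have hbp : ∀ i, b i ^ p = 1 := fun i => by
    simp only [b, zz]
    rw [(haz.pow_right _).mul_pow, hap, one_mul, ← pow_mul, mul_comm, pow_mul, hzpow, one_pow]
  have hbcomm : ∀ i j, Commute (b i) (b j) := fun i j => by
    simp only [b, zz]
    exact (Commute.mul_left ((Commute.refl a).mul_right (haz.pow_right _))
      ((haz.symm.pow_left _).mul_right ((Commute.refl z).pow_pow _ _)))
  let e : ZMod p → Module.End (ZMod q) V := fun i =>
    (p : ZMod q)⁻¹ • ∑ k ∈ Finset.range p, ρ (b i ^ k)
  have hfix : ∀ i v, ρ (b i) (e i v) = e i v := by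
    intro i v
    simp only [e, LinearMap.smul_apply, LinearMap.sum_apply, map_smul, map_sum]
    congr 1
    have h : ∀ k, ρ (b i) (ρ (b i ^ k) v) = ρ (b i ^ (k + 1)) v := fun k => by
      rw [pow_succ', map_mul ρ (b i) (b i ^ k), Module.End.mul_apply]
    simp only [h]
    have h2 := Finset.sum_range_succ' (fun k => ρ (b i ^ k) v) p
    rw [Finset.sum_range_succ, hbp, pow_zero] at h2
    exact (add_right_cancel h2).symm
  have he_fixed : ∀ i v, ρ (b i) v = v → e i v = v := by
    intro i v hv
    have h : ∀ k, ρ (b i ^ k) v = v := fun k =>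
      apply_eq_of_mem_zpowers (pow_mem (Subgroup.mem_zpowers (b i)) k) hv
    simp only [e, LinearMap.smul_apply, LinearMap.sum_apply, h, Finset.sum_const, Finset.card_range]
    rw [← Nat.cast_smul_eq_nsmul (ZMod q), smul_smul, inv_mul_cancel₀ hpne, one_smul]
  have he_zero : ∀ i j v, i ≠ j → ρ (b j) v = v → e i v = 0 := by
    intro i j v hij hv
    apply hz
    have h2 : ρ (b j) (e i v) = e i v := by
      simp only [e, LinearMap.smul_apply, LinearMap.sum_apply, map_smul, map_sum]
      congr 1
      refine Finset.sum_congr rfl fun k _ => ?_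
      rw [← Module.End.mul_apply, ← map_mul, ((hbcomm j i).pow_right k).eq, map_mul,
        Module.End.mul_apply, hv]
    have h3 : ρ ((b i)⁻¹ * b j) (e i v) = e i v :=
      mul_mem (inv_mem (mem_stab.2 (hfix i v) : b i ∈ stab ρ (e i v))) (mem_stab.2 h2)
    have h4 : (b i)⁻¹ * b j = z ^ (j - i).val := by
      rw [inv_mul_eq_iff_eq_mul]
      simp only [b]
      rw [mul_assoc, show z ^ (j - i).val = zz (j - i) from rfl, ← hzadd, add_sub_cancel]
    rw [h4] at h3
    refine apply_eq_of_mem_zpowers ?_ h3
    have hcop : Nat.Coprime (j - i).val (orderOf z) := by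
      rw [hzp, Nat.coprime_comm, hp.coprime_iff_not_dvd]
      intro hd
      have h5 := ZMod.val_lt (j - i)
      have h6 : (j - i).val ≠ 0 := by
        rw [Ne, ZMod.val_eq_zero, sub_eq_zero]
        exact Ne.symm hij
      exact absurd (Nat.le_of_dvd (Nat.pos_of_ne_zero h6) hd) (not_le.2 h5)
    obtain ⟨m, hm⟩ := exists_pow_eq_self_of_coprime hcop
    exact ⟨(m : ℤ), by simpa using hm⟩
  have hsum : ∀ v, ∑ i, e i v = v := by
    intro v
    simp only [e, LinearMap.smul_apply, LinearMap.sum_apply, ← Finset.smul_sum]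
    rw [Finset.sum_comm, Finset.sum_eq_single 0]
    · simp only [pow_zero, map_one, Module.End.one_apply, Finset.sum_const, Finset.card_univ,
        ZMod.card]
      rw [← Nat.cast_smul_eq_nsmul (ZMod q), smul_smul, inv_mul_cancel₀ hpne, one_smul]
    · intro k hk hk0
      have h1 : ∀ i, b i ^ k = a ^ k * (z ^ k) ^ i.val := fun i => by
        simp only [b, zz]
        rw [(haz.pow_right _).mul_pow, ← pow_mul, ← pow_mul, mul_comm k]
      simp only [h1, map_mul, Module.End.mul_apply, ← map_sum]
      suffices h : ∑ i : ZMod p, ρ ((z ^ k) ^ i.val) v = 0 by rw [h, map_zero]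
      apply hz
      have hcop : Nat.Coprime k (orderOf z) := by
        rw [hzp, Nat.coprime_comm, hp.coprime_iff_not_dvd]
        exact fun hd => absurd (Nat.le_of_dvd (Nat.pos_of_ne_zero hk0) hd)
          (not_le.2 (Finset.mem_range.1 hk))
      obtain ⟨m, hm⟩ := exists_pow_eq_self_of_coprime hcop
      refine apply_eq_of_mem_zpowers (x := z ^ k) ⟨(m : ℤ), by simpa using hm⟩ ?_
      rw [map_sum, ← Equiv.sum_comp (Equiv.addRight (1 : ZMod p))
        (fun i => ρ ((z ^ k) ^ i.val) v)]
      refine Finset.sum_congr rfl fun i _ => ?_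
      rw [Equiv.coe_addRight, ← Module.End.mul_apply, ← map_mul, ← pow_succ']
      congr 2
      have hk1 : (z ^ k) ^ p = 1 := by rw [← pow_mul, mul_comm, pow_mul, hzpow, one_pow]
      rw [pow_eq_pow_mod (i.val + 1) hk1, ZMod.val_add, ZMod.val_one]
    · intro h
      exact absurd (Finset.mem_range.2 hp.pos) h
  -- `P` translates the coordinates
  have htrans : ∀ h ∈ P, ∃ t : ZMod p, ∀ i v, e (i + t) (ρ h v) = ρ h (e i v) := by
    intro h hh
    obtain ⟨hcz, t, ht⟩ := hshift h hh
    refine ⟨(t : ZMod p), fun i v => ?_⟩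
    have hconj : h * b i * h⁻¹ = b (i + (t : ZMod p)) := by
      simp only [b]
      calc h * (a * zz i) * h⁻¹ = (h * a * h⁻¹) * (h * zz i * h⁻¹) := by group
        _ = a * z ^ t * zz i := by
          rw [ht, (hcz.pow_right _).eq, mul_inv_cancel_right]
        _ = a * zz (i + (t : ZMod p)) := by
          rw [mul_assoc, add_comm i, hzadd, hzcast]
    simp only [e, LinearMap.smul_apply, LinearMap.sum_apply, map_smul, map_sum]
    congr 1
    refine Finset.sum_congr rfl fun k _ => ?_
    rw [← hconj, conj_pow, ← Module.End.mul_apply, ← map_mul, inv_mul_cancel_right, map_mul,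
      Module.End.mul_apply]
  have hsupp : ∀ g' v, ∃ t : ZMod p, ∀ i, e (i + t) (ρ g' v) ≠ 0 ↔ e i v ≠ 0 := by
    intro g' v
    obtain ⟨h, hh, hv⟩ := hinv g' v
    obtain ⟨t, ht⟩ := htrans h hh
    refine ⟨t, fun i => ?_⟩
    rw [← hv, ht]
    constructor
    · intro hne h0
      exact hne (by rw [h0, map_zero])
    · intro hne h0
      refine hne ?_
      have := congrArg (ρ h⁻¹) h0
      rwa [ρ.inv_self_apply, map_zero] at this
  have hgshift : ∀ i v, e (i + 1) (ρ g v) = ρ g (e i v) := by
    intro i v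
    have hconj : g * b i * g⁻¹ = b (i + 1) := by
      simp only [b]
      calc g * (a * zz i) * g⁻¹ = (g * a * g⁻¹) * (g * zz i * g⁻¹) := by group
        _ = a * z * zz i := by
          rw [hga, ((hshift g hg).1.pow_right _).eq, mul_inv_cancel_right]
        _ = a * zz (i + 1) := by
          rw [mul_assoc, add_comm i, hzadd, show zz 1 = z by
            simp only [zz, ZMod.val_one, pow_one]]
    simp only [e, LinearMap.smul_apply, LinearMap.sum_apply, map_smul, map_sum]
    congr 1
    refine Finset.sum_congr rfl fun k _ => ?_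
    rw [← hconj, conj_pow, ← Module.End.mul_apply, ← map_mul, inv_mul_cancel_right, map_mul,
      Module.End.mul_apply]
  -- a nonzero vector in each block
  obtain ⟨x0, hx00, hx0⟩ : ∃ x, x ≠ 0 ∧ ρ (b 0) x = x := by
    obtain ⟨v, hv⟩ := exists_ne (0 : V)
    obtain ⟨i, hi⟩ : ∃ i, e i v ≠ 0 := by
      by_contra! h
      exact hv (by rw [← hsum v]; simp [h])
    have hn : ∀ n : ℕ, ∃ w, e (i + (n : ZMod p)) w ≠ 0 := by
      intro n
      induction n with
      | zero => exact ⟨v, by simpa using hi⟩
      | succ n ih =>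
        obtain ⟨w, hw⟩ := ih
        refine ⟨ρ g w, ?_⟩
        rw [Nat.cast_succ, ← add_assoc, hgshift]
        intro h0
        have := congrArg (ρ g⁻¹) h0
        rw [ρ.inv_self_apply, map_zero] at this
        exact hw this
    obtain ⟨w, hw⟩ := hn (-i).val
    rw [ZMod.natCast_zmod_val, add_neg_cancel] at hw
    exact ⟨e 0 w, hw, hfix 0 w⟩
  have hblock : ∀ i : ZMod p, ∃ x, x ≠ 0 ∧ ρ (b i) x = x := by
    intro i
    have hn : ∀ n : ℕ, ∃ x, x ≠ 0 ∧ ρ (b (n : ZMod p)) x = x := by
      intro n
      induction n with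
      | zero => exact ⟨x0, hx00, by simpa using hx0⟩
      | succ n ih =>
        obtain ⟨x, hxne, hx⟩ := ih
        refine ⟨ρ g x, fun h0 => hxne ?_, ?_⟩
        · have := congrArg (ρ g⁻¹) h0
          rwa [ρ.inv_self_apply, map_zero] at this
        · have h1 := hgshift (n : ZMod p) x
          rw [he_fixed _ _ hx, ← Nat.cast_succ] at h1
          rw [← h1]
          exact hfix _ _
    simpa using hn i.val
  choose x hxne hx using hblock
  have hxsupp : ∀ i j, e j (x i) ≠ 0 ↔ j = i := by
    intro i j
    constructor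
    · intro hj
      by_contra hji
      exact hj (he_zero j i (x i) hji (hx i))
    · rintro rfl
      rw [he_fixed _ _ (hx j)]
      exact hxne j
  -- the induced permutations of the blocks
  have hπex : ∀ g' i, ∃ j, ∀ k, e k (ρ g' (x i)) ≠ 0 ↔ k = j := by
    intro g' i
    obtain ⟨t, ht⟩ := hsupp g' (x i)
    refine ⟨i + t, fun k => ?_⟩
    have h1 := ht (k - t)
    rw [sub_add_cancel] at h1
    rw [h1, hxsupp, sub_eq_iff_eq_add]
  choose π hπ using hπex
  have hπblock : ∀ g' i y, ρ (b i) y = y → ∀ k, k ≠ π g' i → e k (ρ g' y) = 0 := by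
    intro g' i y hy k hk
    by_contra hne
    obtain ⟨t, ht⟩ := hsupp g' y
    obtain ⟨s, hs⟩ := hsupp g' (x i + y)
    have honly : ∀ y', ρ (b i) y' = y' → ∀ j, e j y' ≠ 0 → j = i := fun y' hy' j hj => by
      by_contra hji
      exact hj (he_zero j i y' hji hy')
    have hk1 : k - t = i := honly y hy _ ((ht (k - t)).1 (by rwa [sub_add_cancel]))
    have h0 : e k (ρ g' (x i)) = 0 := by
      by_contra h'
      exact hk ((hπ g' i k).1 h')
    have hk2 : e k (ρ g' (x i + y)) ≠ 0 := by
      rw [map_add, map_add, h0, zero_add]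
      exact hne
    have hyk : e (π g' i) (ρ g' y) = 0 := by
      by_contra h'
      have h1 : π g' i - t = i := honly y hy _ ((ht (π g' i - t)).1 (by rwa [sub_add_cancel]))
      exact hk (sub_left_injective (hk1.trans h1.symm))
    have hp2 : e (π g' i) (ρ g' (x i + y)) ≠ 0 := by
      rw [map_add, map_add, hyk, add_zero]
      exact (hπ g' i _).2 rfl
    have hxy : ρ (b i) (x i + y) = x i + y := by rw [map_add, hx, hy]
    have h3 := honly _ hxy _ ((hs (k - s)).1 (by rwa [sub_add_cancel]))
    have h4 := honly _ hxy _ ((hs (π g' i - s)).1 (by rwa [sub_add_cancel]))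
    exact hk (sub_left_injective (h3.trans h4.symm))
  have hπmul : ∀ g₁ g₂ i, π (g₁ * g₂) i = π g₁ (π g₂ i) := by
    intro g₁ g₂ i
    set y := ρ g₂ (x i) with hy
    have hyb : e (π g₂ i) y = y := by
      conv_rhs => rw [← hsum y]
      rw [Finset.sum_eq_single (π g₂ i)]
      · intro k _ hk
        by_contra h'
        exact hk ((hπ g₂ i k).1 h')
      · exact fun h => absurd (Finset.mem_univ _) h
    have hne : e (π (g₁ * g₂) i) (ρ g₁ y) ≠ 0 := by
      rw [show ρ g₁ y = ρ (g₁ * g₂) (x i) by rw [map_mul, Module.End.mul_apply]]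
      exact (hπ _ i _).2 rfl
    by_contra h'
    exact hne (hπblock g₁ _ y (hyb ▸ hfix _ y) _ h')
  have hπone : ∀ i, π 1 i = i := fun i => by
    have := (hπ 1 i i).1 (by rw [map_one, Module.End.one_apply]; exact (hxsupp i i).2 rfl)
    exact this.symm
  have hπinj : ∀ g', Function.Injective (π g') := fun g' i j h => by
    have := congrArg (π g'⁻¹) h
    rwa [← hπmul, ← hπmul, inv_mul_cancel, hπone, hπone] at this
  have hadj : ∀ g' i, π g' (i + 1) = π g' i + 1 ∨ π g' (i + 1) = π g' i - 1 := by
    intro g' i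
    obtain ⟨t, ht⟩ := hsupp g' (x i + x (i + 1))
    have hne : i + 1 ≠ i := fun h => one_ne_zero (α := ZMod p) (add_eq_left.1 h)
    have hsup : ∀ j, e j (x i + x (i + 1)) ≠ 0 ↔ (j = i ∨ j = i + 1) := by
      intro j
      rcases eq_or_ne j i with rfl | hji
      · simp only [map_add, true_or, iff_true]
        rw [he_zero j (j + 1) _ hne.symm (hx _), add_zero]
        exact (hxsupp j j).2 rfl
      · rw [map_add, he_zero j i _ hji (hx i), zero_add, hxsupp]
        simp [hji]
    have himg : ∀ j, (j = i ∨ j = i + 1) → e (π g' j) (ρ g' (x i + x (i + 1))) ≠ 0 := by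
      rintro j (rfl | rfl)
      · rw [map_add, map_add, hπblock g' (j + 1) _ (hx _) _ (fun h => hne (hπinj g' h).symm),
          add_zero]
        exact (hπ g' j _).2 rfl
      · rw [map_add, map_add, hπblock g' i _ (hx _) _ (fun h => hne (hπinj g' h)), zero_add]
        exact (hπ g' _ _).2 rfl
    have hA := (hsup _).1 ((ht (π g' i - t)).1 (by
      rw [sub_add_cancel]; exact himg i (Or.inl rfl)))
    have hB := (hsup _).1 ((ht (π g' (i + 1) - t)).1 (by
      rw [sub_add_cancel]; exact himg (i + 1) (Or.inr rfl)))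
    have hAB : π g' i - t ≠ π g' (i + 1) - t := fun h =>
      hne (hπinj g' (sub_left_injective h)).symm
    rcases hA with hA | hA <;> rcases hB with hB | hB
    · exact absurd (hA.trans hB.symm) hAB
    · left; linear_combination hB - hA
    · right; linear_combination hB - hA
    · exact absurd (hA.trans hB.symm) hAB
  -- so the permutations are affine
  let ε : K → ZMod p := fun g' => π g' 1 - π g' 0
  have haff : ∀ g' i, π g' i = π g' 0 + ε g' * i := by
    intro g' i
    have hd : ∀ n : ℕ, π g' ((n : ZMod p) + 1) - π g' (n : ZMod p) = ε g' := by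
      intro n
      induction n with
      | zero => simp [ε]
      | succ n ih =>
        rw [Nat.cast_succ]
        set j : ZMod p := (n : ZMod p)
        have hj := hadj g' (j + 1)
        have hj0 := hadj g' j
        by_cases h2 : (2 : ZMod p) = 0
        · rcases hj with h | h <;> rcases hj0 with h' | h'
          · rw [h, ← ih, h']; ring
          · rw [h, ← ih, h']; linear_combination h2
          · rw [h, ← ih, h']; linear_combination -h2
          · rw [h, ← ih, h']; ring
        · have hne : j + 1 + 1 ≠ j := fun h => h2 (by linear_combination h)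
          have hne' := (hπinj g').ne hne
          rcases hj with h | h <;> rcases hj0 with h' | h'
          · rw [h, ← ih, h']; ring
          · exact absurd (by rw [h, h']; ring) hne'
          · exact absurd (by rw [h, h']; ring) hne'
          · rw [h, ← ih, h']; ring
    have hn : ∀ n : ℕ, π g' (n : ZMod p) = π g' 0 + ε g' * (n : ZMod p) := by
      intro n
      induction n with
      | zero => simp
      | succ n ih =>
        have := hd n
        rw [Nat.cast_succ]
        linear_combination this + ih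
    simpa using hn i.val
  let E : K →* ZMod p :=
    { toFun := ε
      map_one' := by simp [ε, hπone]
      map_mul' := fun g₁ g₂ => by
        show π (g₁ * g₂) 1 - π (g₁ * g₂) 0 = ε g₁ * ε g₂
        rw [hπmul, hπmul, haff g₁ (π g₂ 1), haff g₁ (π g₂ 0)]
        show _ = ε g₁ * (π g₂ 1 - π g₂ 0)
        ring }
  have hε : ∀ g', ε g' = 1 := fun g' =>
    map_eq_one_of_commute hperf E (fun _ _ => mul_comm _ _) g'
  let T : K →* Multiplicative (ZMod p) :=
    { toFun := fun g' => Multiplicative.ofAdd (π g' 0)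
      map_one' := by rw [hπone, ofAdd_zero]
      map_mul' := fun g₁ g₂ => by
        rw [← ofAdd_add, hπmul, haff g₁ (π g₂ 0), hε, one_mul] }
  have hT : π g 0 = 0 :=
    Multiplicative.ofAdd.injective ((map_eq_one_of_commute hperf T (fun _ _ => mul_comm _ _) g).trans
      ofAdd_zero.symm)
  have h1 : e (0 + 1) (ρ g (x 0)) ≠ 0 := by
    rw [hgshift, he_fixed _ _ (hx 0)]
    intro h0
    have := congrArg (ρ g⁻¹) h0
    rw [ρ.inv_self_apply, map_zero] at this
    exact hxne 0 this
  rw [zero_add] at h1
  exact one_ne_zero (α := ZMod p) (((hπ g 0 1).1 h1).trans hT)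

omit [Finite V] in
/-- A group with the orbits of a `p`-group `P` on which `P` is irreducible is not perfect if `P`
has a normal elementary abelian subgroup of order `p²`. -/
theorem false_of_elementary (hpq : p ≠ q) (hperf : commutator K = ⊤)
    (ρ : Representation (ZMod q) K V) (hinj : Function.Injective ρ) [Nontrivial V] (P : Subgroup K)
    (hP : IsPGroup p P) (hinv : ∀ g v, ∃ h ∈ P, ρ h v = ρ g v)
    (hirr : ∀ W : Submodule (ZMod q) V, (∀ h ∈ P, ∀ w ∈ W, ρ h w ∈ W) → W = ⊥ ∨ W = ⊤)
    (E : Subgroup P) [E.Normal] (hE : Cfsg.IsElementaryAbelian p E) (hEc : Nat.card E = p ^ 2) :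
    False := by
  classical
  have hp := Fact.out (p := p.Prime)
  have hEne : E ≠ ⊥ := fun h => by
    rw [h, Subgroup.card_bot] at hEc
    exact (Nat.one_lt_pow two_ne_zero hp.one_lt).ne hEc
  obtain ⟨z, hzE, hzc, hzo⟩ := PGroup.exists_orderOf_eq_mem_center hP E hEne
  obtain ⟨a, haE, haz⟩ : ∃ a ∈ E, a ∉ Subgroup.zpowers z := by
    by_contra! h
    have := Subgroup.card_le_of_le (h : E ≤ Subgroup.zpowers z)
    rw [Nat.card_zpowers, hzo, hEc] at this
    nlinarith [hp.two_le]
  have hcentral : ∀ y ∈ Subgroup.center P, y ≠ 1 → ∀ v, ρ (y : K) v = v → v = 0 := by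
    intro y hy hy1 v hv
    rcases hirr (fixSub ρ (y : K)) (fun h hh w hw => by
      rw [mem_fixSub] at hw ⊢
      rw [← Module.End.mul_apply, ← map_mul,
        show (y : K) * h = h * y from (congrArg Subtype.val
          (Subgroup.mem_center_iff.1 hy ⟨h, hh⟩)).symm,
        map_mul, Module.End.mul_apply, hw]) with hbot | htop
    · exact (Submodule.mem_bot _).1 (hbot ▸ mem_fixSub.2 hv)
    · refine absurd (Subtype.ext (hinj ?_)) hy1
      rw [Subgroup.coe_one, map_one]
      exact LinearMap.ext fun w => mem_fixSub.1 (htop ▸ Submodule.mem_top)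
  have hz1 : z ≠ 1 := fun h => hp.ne_one (by rw [← hzo, h, orderOf_one])
  -- commutators with `a` lie in `⟨z⟩`
  have hcomm : ∀ h : P, ∃ t : ℕ, h * a * h⁻¹ = a * z ^ t := by
    have hZn : (Subgroup.zpowers z).Normal := ⟨fun w hw h => by
      rwa [Subgroup.mem_center_iff.1 (Subgroup.zpowers_le.2 hzc hw) h, mul_inv_cancel_right]⟩
    set f := QuotientGroup.mk' (Subgroup.zpowers z)
    have hEn : (E.map f).Normal :=
      Subgroup.Normal.map inferInstance f (QuotientGroup.mk'_surjective _)
    have hcard : Nat.card (E.map f) = p := by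
      rw [← Subgroup.relIndex_ker, QuotientGroup.ker_mk']
      have h := Subgroup.card_mul_index ((Subgroup.zpowers z).subgroupOf E)
      rw [Nat.card_congr (Subgroup.subgroupOfEquivOfLe (Subgroup.zpowers_le.2 hzE)).toEquiv,
        Nat.card_zpowers, hzo, hEc, pow_two] at h
      exact Nat.eq_of_mul_eq_mul_left hp.pos h
    have hcent := PGroup.le_center_of_card_eq (hP.to_quotient _) (E.map f) hcard
    intro h
    have h1 := Subgroup.mem_center_iff.1 (hcent (Subgroup.mem_map_of_mem f haE)) (f h)
    have h2 : a⁻¹ * (h * a * h⁻¹) ∈ Subgroup.zpowers z := by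
      rw [← QuotientGroup.ker_mk' (Subgroup.zpowers z), MonoidHom.mem_ker]
      simp only [map_mul, map_inv]
      rw [h1, mul_inv_cancel_right, inv_mul_cancel]
    obtain ⟨t, ht⟩ := mem_powers_iff_mem_zpowers.2 h2
    exact ⟨t, by simp only at ht; rw [ht, mul_inv_cancel_left]⟩
  by_cases hac : ∀ h : P, h * a = a * h
  · -- `E` central: every block is `⊥` or everything
    have hac' : a ∈ Subgroup.center P := Subgroup.mem_center_iff.2 hac
    have hpne : (p : ZMod q) ≠ 0 := by
      rw [Ne, ZMod.natCast_eq_zero_iff]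
      intro h
      exact hpq ((Nat.prime_dvd_prime_iff_eq Fact.out hp).1 h).symm
    have hne : ∀ i : ℕ, a * z ^ i ≠ 1 := fun i h => haz (by
      rw [eq_inv_of_mul_eq_one_left h]
      exact inv_mem (pow_mem (Subgroup.mem_zpowers z) i))
    have hsumzero : ∀ (y : P), (∀ v, ρ (y : K) v = v → v = 0) → y ^ p = 1 →
        ∀ v, ∑ k ∈ Finset.range p, ρ ((y : K) ^ k) v = 0 := by
      intro y hy hyp v
      apply hy
      rw [map_sum]
      have h : ∀ k, ρ (y : K) (ρ ((y : K) ^ k) v) = ρ ((y : K) ^ (k + 1)) v := fun k => by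
        rw [pow_succ', map_mul ρ, Module.End.mul_apply]
      simp only [h]
      have h2 := Finset.sum_range_succ' (fun k => ρ ((y : K) ^ k) v) p
      rw [Finset.sum_range_succ, pow_zero, ← Subgroup.coe_pow, hyp, Subgroup.coe_one] at h2
      exact (add_right_cancel h2).symm
    obtain ⟨v, hv⟩ := exists_ne (0 : V)
    have htot : ∑ i ∈ Finset.range p, ∑ k ∈ Finset.range p, ρ (((a * z ^ i : P) : K) ^ k) v = 0 :=
      Finset.sum_eq_zero fun i _ => hsumzero _ (hcentral _
        (mul_mem hac' (pow_mem hzc i)) (hne i))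
        (hE.2 _ (mul_mem haE (pow_mem hzE i))) v
    rw [Finset.sum_comm, Finset.sum_eq_single 0] at htot
    · simp only [pow_zero, map_one, Module.End.one_apply, Finset.sum_const,
        Finset.card_range] at htot
      rw [← Nat.cast_smul_eq_nsmul (ZMod q), smul_eq_zero] at htot
      exact htot.elim hpne hv
    · intro k hk hk0
      have h1 : ∀ i : ℕ, ((a * z ^ i : P) : K) ^ k = (a : K) ^ k * ((z ^ k : P) : K) ^ i := by
        intro i
        rw [← Subgroup.coe_pow,
          ((show Commute a z from (hac z).symm).pow_right i).mul_pow, ← pow_mul,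
          mul_comm i k, pow_mul, Subgroup.coe_mul, Subgroup.coe_pow, Subgroup.coe_pow]
      simp only [h1, map_mul, Module.End.mul_apply, ← map_sum]
      rw [hsumzero (z ^ k) ?_ (by rw [← pow_mul, mul_comm, pow_mul, ← hzo, pow_orderOf_eq_one,
        one_pow]) v, map_zero]
      refine hcentral _ (pow_mem hzc k) fun h1' => ?_
      have hd := orderOf_dvd_of_pow_eq_one h1'
      rw [hzo] at hd
      exact absurd (Nat.le_of_dvd (Nat.pos_of_ne_zero hk0) hd)
        (not_le.2 (Finset.mem_range.1 hk))
    · intro h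
      exact absurd (Finset.mem_range.2 hp.pos) h
  · push Not at hac
    obtain ⟨g, hg⟩ := hac
    obtain ⟨t, ht⟩ := hcomm g
    have hz' : z ^ t ≠ 1 := fun h => hg (by
      rw [h, mul_one] at ht
      calc g * a = g * a * g⁻¹ * g := by group
        _ = a * g := by rw [ht])
    have hzt : orderOf (z ^ t) = p :=
      orderOf_eq_prime (by rw [← pow_mul, mul_comm, pow_mul, ← hzo, pow_orderOf_eq_one, one_pow]) hz'
    refine false_of_blocks (p := p) hpq hperf ρ P hinv (a : K) ((z ^ t : P) : K) (g : K) g.2
      ?_ (by rw [Subgroup.orderOf_coe, hzt]) ?_ ?_ ?_ ?_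
    · rw [← Subgroup.coe_pow, hE.2 a haE, Subgroup.coe_one]
    · exact congrArg Subtype.val (Subgroup.mem_center_iff.1 (pow_mem hzc t) a)
    · exact hcentral _ (pow_mem hzc t) hz'
    · intro h hh
      refine ⟨congrArg Subtype.val (Subgroup.mem_center_iff.1 (pow_mem hzc t) ⟨h, hh⟩), ?_⟩
      obtain ⟨s, hs⟩ := hcomm ⟨h, hh⟩
      have hzmem : z ∈ Subgroup.zpowers (z ^ t) := by
        have heq : Subgroup.zpowers (z ^ t) = Subgroup.zpowers z :=
          Subgroup.eq_of_le_of_card_ge (Subgroup.zpowers_le.2 (pow_mem (Subgroup.mem_zpowers z) t))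
            (by rw [Nat.card_zpowers, Nat.card_zpowers, hzt, hzo])
        exact heq ▸ Subgroup.mem_zpowers z
      obtain ⟨m, hm⟩ := mem_powers_iff_mem_zpowers.2 hzmem
      refine ⟨m * s, ?_⟩
      have := congrArg Subtype.val hs
      simp only [Subgroup.coe_mul, Subgroup.coe_inv, Subgroup.coe_pow] at this ⊢
      have hm' := congrArg Subtype.val hm
      simp only [Subgroup.coe_pow] at hm'
      rw [this, pow_mul, hm']
    · have := congrArg Subtype.val ht
      simpa using this

end Cfsg.Agent.LinRep.PPowerOrbits
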